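import Mathlib.GroupTheory.Transfer
import Mathlib.GroupTheory.FixedPointFree
import Mathlib.GroupTheory.Sylow
import Mathlib.Combinatorics.Pigeonhole

/-!
# Two lemmas on centralisers of involutions

A self-normalising elementary abelian 2-group of order at least four that is the centraliser of each
of its involutions is the whole group. If a subgroup holds the centralisers of its involutions and
these form one class, some involution outside inverts at least as many elements of a subgroup of odd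
order as there are involutions in the subgroup.
-/

set_option autoImplicit false

namespace CfsgLib.SLThree

variable {G : Type*} [Group G] [Finite G]

theorem eq_top_of_four_ti (U : Subgroup G) (hex : ∀ u ∈ U, u * u = 1) (h4 : 4 ≤ Nat.card U)
    (hcen : ∀ u ∈ U, u ≠ 1 → ∀ g : G, g * u = u * g → g ∈ U)
    (hnorm : Subgroup.normalizer (U : Set G) ≤ U) : U = ⊤ := by
  classical
  haveI : Fact (Nat.Prime 2) := ⟨Nat.prime_two⟩
  have hp : IsPGroup 2 U := fun u => ⟨1, Subtype.ext (by simp [pow_two, hex u.1 u.2])⟩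
  have hinv : ∀ u ∈ U, u⁻¹ = u := fun u hu => inv_eq_of_mul_eq_one_right (hex u hu)
  have hcomm : ∀ a ∈ U, ∀ b ∈ U, a * b = b * a := fun a ha b hb => by
    have := hinv _ (U.mul_mem ha hb)
    rw [mul_inv_rev, hinv a ha, hinv b hb] at this
    exact this.symm
  obtain ⟨u₁, hu₁⟩ : ∃ u : U, u ≠ 1 := by
    haveI : Nontrivial U := Finite.one_lt_card_iff_nontrivial.1 (by omega)
    exact exists_ne 1
  obtain ⟨P, hP⟩ := hp.exists_le_sylow
  have hPU : (P : Subgroup G) = U := by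
    refine le_antisymm ?_ hP
    haveI : Nontrivial (P : Subgroup G) := ⟨⟨⟨_, hP u₁.2⟩, 1, fun h =>
      hu₁ (Subtype.ext (congrArg (fun x : (P : Subgroup G) => (x : G)) h))⟩⟩
    haveI := P.2.center_nontrivial
    obtain ⟨⟨z, hz⟩, hz1⟩ := exists_ne (1 : Subgroup.center (P : Subgroup G))
    have hzc : ∀ x : (P : Subgroup G), (x : G) * (z : G) = (z : G) * x := fun x =>
      congrArg Subtype.val (Subgroup.mem_center_iff.1 hz x)
    have hzU : (z : G) ∈ U :=
      hcen _ u₁.2 (fun h => hu₁ (Subtype.ext h)) _ (hzc ⟨_, hP u₁.2⟩).symm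
    intro x hx
    exact hcen _ hzU (fun h => hz1 (Subtype.ext (Subtype.ext h))) x (hzc ⟨x, hx⟩)
  have hPc : Subgroup.normalizer (P : Set G) ≤ Subgroup.centralizer (P : Set G) := by
    have : (P : Set G) = (U : Set G) := congrArg (fun H : Subgroup G => (H : Set G)) hPU
    rw [this]
    exact hnorm.trans fun x hx => Subgroup.mem_centralizer_iff.2 fun y hy => hcomm y hy x hx
  have hK := MonoidHom.ker_transferSylow_isComplement' P hPc
  set K := (MonoidHom.transferSylow P hPc).ker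
  have hbot : K = ⊥ := by
    have hfix : ∀ u ∈ U, u ≠ 1 → ∀ k ∈ K, u * k * u⁻¹ = k → k = 1 := by
      intro u hu hu1 k hk h
      have hkU : k ∈ U := hcen u hu hu1 k (mul_inv_eq_iff_eq_mul.1 h).symm
      exact Subgroup.mem_bot.1 (hK.disjoint.le_bot ⟨hk, show k ∈ (P : Subgroup G) by rw [hPU]; exact hkU⟩)
    have hinvK : ∀ u ∈ U, u ≠ 1 → ∀ k ∈ K, u * k * u⁻¹ = k⁻¹ := by
      intro u hu hu1 k hk
      let φ : K →* K := (MulAut.conjNormal (H := K) u).toMonoidHom
      have hφ : ∀ x : K, (φ x : G) = u * (x : G) * u⁻¹ := fun _ => rfl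
      have h := MonoidHom.FixedPointFree.coe_eq_inv_of_involutive (φ := φ)
        (fun x hx => Subtype.ext (hfix u hu hu1 x.1 x.2 (by rw [← hφ, hx])))
        (fun x => Subtype.ext (by
          rw [hφ, hφ, hinv u hu, ← mul_assoc, ← mul_assoc, hex u hu, one_mul, mul_assoc, hex u hu,
            mul_one]))
      exact congrArg Subtype.val (congrFun h ⟨k, hk⟩)
    haveI := Fintype.ofFinite U
    obtain ⟨u₂, -, hu₂⟩ := Finset.exists_mem_notMem_of_card_lt_card (s := ({1, u₁} : Finset U))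
      (t := Finset.univ) (lt_of_le_of_lt Finset.card_le_two (by
        rw [Finset.card_univ, ← Nat.card_eq_fintype_card]; omega))
    simp only [Finset.mem_insert, Finset.mem_singleton, not_or] at hu₂
    have h1 : (u₁ : G) ≠ 1 := fun h => hu₁ (Subtype.ext h)
    have h2 : (u₂ : G) ≠ 1 := fun h => hu₂.1 (Subtype.ext h)
    have h12 : (u₁ : G) * u₂ ≠ 1 := fun h => hu₂.2 (Subtype.ext (by
      rw [← inv_eq_of_mul_eq_one_right h, hinv _ u₁.2]))
    rw [Subgroup.eq_bot_iff_forall]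
    intro k hk
    refine hfix _ (U.mul_mem u₁.2 u₂.2) h12 k hk ?_
    calc (u₁ : G) * u₂ * k * ((u₁ : G) * u₂)⁻¹ = u₁ * (u₂ * k * (u₂ : G)⁻¹) * (u₁ : G)⁻¹ := by group
      _ = k := by rw [hinvK _ u₂.2 h2 k hk, hinvK _ u₁.2 h1 _ (K.inv_mem hk), inv_inv]
  rw [hbot, Subgroup.isComplement'_bot_left] at hK
  rw [← hPU]
  exact hK

theorem exists_odd_inverted (H : Subgroup G) (I : Finset G)
    (hI : ∀ x, x ∈ I ↔ x ∈ H ∧ x * x = 1 ∧ x ≠ 1)
    (hconj : ∀ i ∈ I, ∀ j ∈ I, ∃ h ∈ H, h * i * h⁻¹ = j)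
    (hcen : ∀ i ∈ I, ∀ g : G, g * i = i * g → g ∈ H)
    {s₀ : G} (hs₀ : s₀ * s₀ = 1) (hs₀' : s₀ ∉ H) :
    ∃ D : Subgroup G, D ≤ H ∧ (∀ d ∈ D, d * d = 1 → d = 1) ∧
      ∃ s : G, s * s = 1 ∧ I.card ≤ {d : G | d ∈ D ∧ s * d * s = d⁻¹}.ncard := by
  classical
  haveI := Fintype.ofFinite G
  haveI := Fintype.ofFinite (G ⧸ H)
  set S : Finset G := Finset.univ.filter fun x => x * x = 1 ∧ x ∉ H with hS
  set T : Finset (G ⧸ H) := Finset.univ.erase ((1 : G) : G ⧸ H) with hT
  have houtT : ∀ x ∈ T, x.out ∉ H := fun x hx h => (Finset.mem_erase.1 hx).1 (by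
    rw [← QuotientGroup.out_eq' x, QuotientGroup.eq]
    simpa using H.inv_mem h)
  -- many involutions outside
  have hcount : T.card * I.card ≤ S.card := by
    rw [← Finset.card_product]
    refine Finset.card_le_card_of_injOn (fun z => z.1.out * z.2 * z.1.out⁻¹) (fun z hz => ?_) ?_
    · obtain ⟨hx, hi⟩ := Finset.mem_product.1 hz
      obtain ⟨-, hi2, hi1⟩ := (hI _).1 hi
      have hsq : z.1.out * z.2 * z.1.out⁻¹ * (z.1.out * z.2 * z.1.out⁻¹) = 1 := by
        calc _ = z.1.out * (z.2 * z.2) * z.1.out⁻¹ := by group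
          _ = 1 := by rw [hi2]; group
      refine Finset.mem_filter.2 ⟨Finset.mem_univ _, hsq, fun hH => houtT _ hx ?_⟩
      have hj : z.1.out * z.2 * z.1.out⁻¹ ∈ I :=
        (hI _).2 ⟨hH, hsq, fun e => hi1 (by simpa using (mul_inv_eq_one.1 e : z.1.out * z.2 = z.1.out))⟩
      obtain ⟨h, hh, he⟩ := hconj _ hi _ hj
      have hc : h⁻¹ * z.1.out ∈ H := hcen _ hi _ (by
        calc h⁻¹ * z.1.out * z.2 = h⁻¹ * (z.1.out * z.2 * z.1.out⁻¹) * z.1.out := by group
          _ = z.2 * (h⁻¹ * z.1.out) := by rw [← he]; group)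
      simpa using H.mul_mem hh hc
    · intro z hz w hw e
      obtain ⟨-, hi⟩ := Finset.mem_product.1 hz
      obtain ⟨-, hj⟩ := Finset.mem_product.1 hw
      obtain ⟨h, hh, he⟩ := hconj _ hi _ hj
      simp only at e
      rw [← he] at e
      have hc : (w.1.out * h)⁻¹ * z.1.out ∈ H := hcen _ hi _ (by
        calc (w.1.out * h)⁻¹ * z.1.out * z.2
            = (w.1.out * h)⁻¹ * (z.1.out * z.2 * z.1.out⁻¹) * z.1.out := by group
          _ = z.2 * ((w.1.out * h)⁻¹ * z.1.out) := by rw [e]; group)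
      have h1 : z.1 = w.1 := by
        rw [← QuotientGroup.out_eq' z.1, ← QuotientGroup.out_eq' w.1]
        refine (QuotientGroup.eq.2 ?_).symm
        have h3 := H.mul_mem hh hc
        rwa [show h * ((w.1.out * h)⁻¹ * z.1.out) = w.1.out⁻¹ * z.1.out by group] at h3
      refine Prod.ext h1 ?_
      rw [he] at e
      rw [h1] at e
      exact mul_left_cancel (mul_right_cancel e)
  have hmaps : ∀ x ∈ S, (x : G ⧸ H) ∈ T := fun x hx => Finset.mem_erase.2 ⟨fun e => by
    obtain ⟨-, -, hxH⟩ := Finset.mem_filter.1 hx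
    exact hxH (by simpa using QuotientGroup.eq.1 e.symm), Finset.mem_univ _⟩
  obtain ⟨y, -, hy⟩ := Finset.exists_le_card_fiber_of_mul_le_card_of_maps_to hmaps
    ⟨(s₀ : G ⧸ H), hmaps s₀ (Finset.mem_filter.2 ⟨Finset.mem_univ _, hs₀, hs₀'⟩)⟩ hcount
  by_cases hI0 : I.card = 0
  · exact ⟨⊥, bot_le, fun d hd _ => Subgroup.mem_bot.1 hd, 1, mul_one 1, by omega⟩
  obtain ⟨s, hsf⟩ := Finset.card_pos.1 (show 0 < (S.filter fun x : G => (x : G ⧸ H) = y).card by omega)
  obtain ⟨hsS, hsy⟩ := Finset.mem_filter.1 hsf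
  obtain ⟨-, hs2, hsH⟩ := Finset.mem_filter.1 hsS
  have hsi : s⁻¹ = s := inv_eq_of_mul_eq_one_right hs2
  refine ⟨H ⊓ H.comap (MulAut.conj s).toMonoidHom, inf_le_left, ?_, s, hs2, ?_⟩
  · intro d hd hd2
    by_contra hd1
    obtain ⟨hdH, hdc⟩ := hd
    change s * d * s⁻¹ ∈ H at hdc
    have hdI := (hI d).2 ⟨hdH, hd2, hd1⟩
    have hcI : s * d * s⁻¹ ∈ I := (hI _).2 ⟨hdc, by
      calc s * d * s⁻¹ * (s * d * s⁻¹) = s * (d * d) * s⁻¹ := by group
        _ = 1 := by rw [hd2]; group, fun e => hd1 (by simpa using (mul_inv_eq_one.1 e : s * d = s))⟩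
    obtain ⟨h, hh, he⟩ := hconj _ hcI _ hdI
    have hc : h * s ∈ H := hcen d hdI _ (by
      calc h * s * d = h * (s * d * s⁻¹) * h⁻¹ * (h * s) := by group
        _ = d * (h * s) := by rw [he])
    exact hsH (by simpa using H.mul_mem (H.inv_mem hh) hc)
  · refine hy.trans ?_
    rw [← Set.ncard_coe_finset]
    refine Set.ncard_le_ncard_of_injOn (fun x => s * x) (fun x hx => ?_)
      ((mul_right_injective s).injOn) (Set.toFinite _)
    obtain ⟨hxS, hxy⟩ := Finset.mem_filter.1 hx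
    obtain ⟨-, hx2, -⟩ := Finset.mem_filter.1 hxS
    have hxi : x⁻¹ = x := inv_eq_of_mul_eq_one_right hx2
    have hH : s * x ∈ H := by
      have := QuotientGroup.eq.1 (hsy.trans hxy.symm)
      rwa [hsi] at this
    have hinv : s * (s * x) * s = (s * x)⁻¹ := by
      rw [← mul_assoc, hs2, one_mul, mul_inv_rev, hxi, hsi]
    refine ⟨⟨hH, ?_⟩, hinv⟩
    show s * (s * x) * s⁻¹ ∈ H
    rw [hsi, hinv]
    exact H.inv_mem hH

end CfsgLib.SLThree
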