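import Cfsg.Agent.SLThree.Basic
import Cfsg.Agent.SLThree.Embedded
import Cfsg.Agent.MaxSub.QuadraticBasic
import Cfsg.Agent.SubfieldMax.AnyDim
import Mathlib.LinearAlgebra.Matrix.GeneralLinearGroup.Card
import Mathlib.LinearAlgebra.Matrix.Charpoly.Coeff

/-!
# Subfield subgroups are maximal in `SL₃`

As in dimension at least five the problem is a transvection `t` in the overgroup whose centre and
axis have coordinates independent over the subfield `F₀`, in characteristic two. If `|F₀| ≥ 4`,
the elements fixing the common fixed point and plane of `t` and a rational root group are then a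
root group, as a self-normalising four-group is everything. If `|F₀| = 2`, the rational group
`L₃(2)` would be strongly embedded, and have an abelian subgroup of odd order at least 21.
-/

set_option autoImplicit false
set_option linter.unusedSectionVars false

namespace CfsgLib.SLThree

open Matrix Cfsg.Geo CfsgLib.MaxSub

variable {F : Type*} [Field F] [Fintype F]

section SmallField

variable {K : Type*} [Field K] [Fintype K]

/-- Involutions of `GL₃` of the field of two elements are conjugate to `1 + E₀₂`. -/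
theorem exists_conj_of_involution (h2 : (2 : K) = 0) {y : GL (Fin 3) K} (hy : y * y = 1)
    (hy1 : y ≠ 1) : ∃ P : GL (Fin 3) K, P * el 0 2 1 * P⁻¹ = y := by
  set N := (y : Matrix (Fin 3) (Fin 3) K) - 1 with hN
  have hneg : ∀ a : K, -a = a := fun a => by linear_combination (-a) * h2
  have hsq : N * N = 0 := by
    rw [hN, sub_mul, mul_sub, one_mul, mul_one, ← Units.val_mul, hy, Units.val_one]
    ext i j
    simp only [Matrix.sub_apply, Matrix.zero_apply]
    linear_combination ((1 : Matrix (Fin 3) (Fin 3) K) i j - (y : Matrix (Fin 3) (Fin 3) K) i j) * h2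
  set φ := toLin' N
  have hle : LinearMap.range φ ≤ LinearMap.ker φ := by
    rintro _ ⟨x, rfl⟩
    simp [φ, mulVec_mulVec, hsq]
  have hr1 : Module.finrank K (LinearMap.range φ) ≤ 1 := by
    have h1 := Submodule.finrank_mono hle
    have h3 := φ.finrank_range_add_finrank_ker
    rw [Module.finrank_fin_fun] at h3
    omega
  obtain ⟨x, hx⟩ : ∃ x, N *ᵥ x ≠ 0 := by
    by_contra h
    push Not at h
    refine hy1 (gl_ext fun z => ?_)
    have := h z
    rw [hN, sub_mulVec, one_mulVec, sub_eq_zero] at this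
    rw [this, Units.val_one, one_mulVec]
  set u := N *ᵥ x with hu
  have hu0 : u ≠ 0 := hx
  have hspan : ∀ z, ∃ c : K, c • u = N *ᵥ z := by
    intro z
    have h1 : Module.finrank K (LinearMap.range φ) = 1 := by
      refine le_antisymm hr1 ?_
      rw [Submodule.one_le_finrank_iff]
      exact fun h => hu0 ((Submodule.eq_bot_iff _).1 h _ ⟨x, by simp [φ, hu]⟩)
    have := (finrank_eq_one_iff_of_nonzero' (⟨u, x, by simp [φ, hu]⟩ : LinearMap.range φ)
      (fun h => hu0 (congrArg Subtype.val h))).1 h1 ⟨N *ᵥ z, z, by simp [φ]⟩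
    obtain ⟨c, hc⟩ := this
    exact ⟨c, congrArg Subtype.val hc⟩
  choose c hc using hspan
  let w : Fin 3 → K := fun j => c (Pi.single j 1)
  have hNw : N = vecMulVec u w := by
    ext i j
    have h := congrFun (hc (Pi.single j 1)) i
    simp only [Pi.smul_apply, smul_eq_mul, mulVec_single_one, col_apply] at h
    rw [← h, vecMulVec_apply, mul_comm]
  have hwu : w ⬝ᵥ u = 0 := by
    have h : N *ᵥ (N *ᵥ x) = 0 := by rw [mulVec_mulVec, hsq, zero_mulVec]
    rw [← hu, hNw, vecMulVec_mulVec'] at h
    exact (smul_eq_zero.1 h).resolve_right hu0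
  have hw0 : w ≠ 0 := fun h => hx (by rw [hu, hNw, h, vecMulVec_zero, zero_mulVec])
  have hyt : y = tv u w := Units.ext (by rw [tv_coe hwu, ← hNw, hN]; abel)
  -- a basis
  obtain ⟨z, hz⟩ := exists_dot_eq_one hw0
  rw [dotProduct_comm] at hz
  obtain ⟨v, hv, hvu⟩ : ∃ v ∈ dotsKer ![w], v ∉ Submodule.span K {u} := by
    by_contra hcon
    push Not at hcon
    have h1 := Submodule.finrank_mono (hcon : dotsKer ![w] ≤ Submodule.span K {u})
    have h3 := finrank_dotsKer ![w]
    rw [finrank_span_singleton hu0] at h1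
    simp only [Fintype.card_fin] at h3
    omega
  rw [mem_dotsKer] at hv
  have hwv : w ⬝ᵥ v = 0 := by simpa using hv 0
  let A : Matrix (Fin 3) (Fin 3) K := Matrix.of fun i k => ![u i, v i, z i] k
  have hli : LinearIndependent K A.col := by
    rw [Fintype.linearIndependent_iff]
    intro g hg
    have he : g 0 • u + g 1 • v + g 2 • z = 0 := by
      rw [← hg, Fin.sum_univ_three]
      funext i
      simp [A, Matrix.col]
    have g2 : g 2 = 0 := by
      have := congrArg (w ⬝ᵥ ·) he
      simpa [dotProduct_add, dotProduct_smul, hwu, hwv, hz] using this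
    rw [g2, zero_smul, add_zero] at he
    have g1 : g 1 = 0 := by
      by_contra h
      refine hvu (Submodule.mem_span_singleton.2 ⟨-(g 1)⁻¹ * g 0, ?_⟩)
      rw [mul_smul, eq_neg_of_add_eq_zero_left he, smul_neg, smul_smul, neg_mul,
        inv_mul_cancel₀ h, neg_smul, one_smul, neg_neg]
    rw [g1, zero_smul, add_zero] at he
    have g0 : g 0 = 0 := (smul_eq_zero.1 he).resolve_right hu0
    intro i
    fin_cases i
    · exact g0
    · exact g1
    · exact g2
  obtain ⟨P, hP⟩ := linearIndependent_cols_iff_isUnit.1 hli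
  refine ⟨P, ?_⟩
  rw [el, conj_tv, hP, hyt, mulVec_single_one]
  have hwA : w ᵥ* (P : Matrix (Fin 3) (Fin 3) K) = Pi.single 2 1 := by
    funext k
    rw [hP]
    fin_cases k
    · simpa [A, vecMul, dotProduct] using hwu
    · simpa [A, vecMul, dotProduct] using hwv
    · simpa [A, vecMul, dotProduct] using hz
  rw [← hwA, vecMul_vecMul, Units.mul_inv, vecMul_one]
  congr 1

/-- An element of `GL₃(2)` has order at most seven. -/
theorem orderOf_le_seven (hK : Nat.card K = 2) (y : GL (Fin 3) K) : orderOf y ≤ 7 := by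
  classical
  set A := (y : Matrix (Fin 3) (Fin 3) K) with hA
  let f : (Fin 3 → K) → Matrix (Fin 3) (Fin 3) K := fun c => ∑ i : Fin 3, c i • A ^ (i : ℕ)
  have hpow : ∀ n, ∃ c, f c = A ^ n := by
    intro n
    have hdeg : (Polynomial.X ^ n %ₘ A.charpoly).natDegree < 3 := by
      rcases eq_or_ne (Polynomial.X ^ n %ₘ A.charpoly) 0 with h | h
      · rw [h]; simp
      · have h1 := Polynomial.degree_modByMonic_lt (Polynomial.X ^ n) A.charpoly_monic
        rw [A.charpoly_degree_eq_dim, ← Polynomial.natDegree_lt_iff_degree_lt h] at h1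
        simpa using h1
    refine ⟨fun i => (Polynomial.X ^ n %ₘ A.charpoly).coeff i, ?_⟩
    rw [Matrix.pow_eq_aeval_mod_charpoly, Polynomial.aeval_eq_sum_range' hdeg, Finset.sum_range]
  set W := (Finset.univ : Finset (Fin 3 → K)).image f with hW
  have h0 : (0 : Matrix (Fin 3) (Fin 3) K) ∈ W := Finset.mem_image.2 ⟨0, Finset.mem_univ _, by simp [f]⟩
  have hWc : W.card ≤ 8 := by
    refine Finset.card_image_le.trans ?_
    rw [Finset.card_univ, Fintype.card_fun, Fintype.card_fin, ← Nat.card_eq_fintype_card, hK]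
    norm_num
  have h1 : (Finset.range (orderOf y)).card ≤ (W.erase 0).card := by
    refine Finset.card_le_card_of_injOn (fun n => A ^ n) (fun n _ => ?_) (fun a ha b hb e => ?_)
    · refine Finset.mem_erase.2 ⟨?_, ?_⟩
      · show A ^ n ≠ 0
        rw [hA, ← Units.val_pow_eq_pow_val]
        exact Units.ne_zero _
      · obtain ⟨c, hc⟩ := hpow n
        exact Finset.mem_image.2 ⟨c, Finset.mem_univ _, hc⟩
    · refine pow_injOn_Iio_orderOf (x := y) (Finset.mem_range.1 ha) (Finset.mem_range.1 hb)
        (Units.ext ?_)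
      simpa [hA] using e
  rw [Finset.card_range, Finset.card_erase_of_mem h0] at h1
  omega

end SmallField

/-- A rational element fixing a vector: its centraliser stabilises a rational subspace. -/
def StabRat (M : Subgroup (GL (Fin 3) F)) (F₀ : Subfield F) : Prop :=
  ∀ (A : Matrix (Fin 3) (Fin 3) F) (x : GL (Fin 3) F), RatMat F₀ A → x ∈ M →
    (∃ v, v ≠ 0 ∧ A *ᵥ v = 0) → A ≠ 0 →
    (∀ v, A *ᵥ v = 0 → A *ᵥ ((x : Matrix (Fin 3) (Fin 3) F) *ᵥ v) = 0) →
    x ∈ subfieldSubgroup F₀ (1 : GL (Fin 3) F)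

variable {F₀ : Subfield F} {M : Subgroup (GL (Fin 3) F)}

theorem not_mem_div {u : Fin 3 → F} (hind : LinearIndependent F₀ u) {i j : Fin 3} (hij : i ≠ j) :
    u j / u i ∉ F₀ := by
  intro h
  have := Fintype.linearIndependent_iff.1 hind (Pi.single j 1 - Pi.single i ⟨_, h⟩) (by
    simp only [Pi.sub_apply, sub_smul, Finset.sum_sub_distrib]
    rw [Finset.sum_eq_single j (fun k _ hk => by simp [hk]) (by simp),
      Finset.sum_eq_single i (fun k _ hk => by simp [hk]) (by simp)]
    simp only [Pi.single_eq_same, one_smul]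
    show u j - u j / u i * u i = 0
    rw [div_mul_cancel₀ _ (hind.ne_zero i), sub_self]) j
  simp [Ne.symm hij] at this

/-- `|F₀| ≥ 4`: the transvection `t` cannot be there. -/
theorem false_of_four_le (hq : 4 ≤ Nat.card F₀) (h2 : (2 : F) = 0)
    (hel : ∀ i j : Fin 3, i ≠ j → ∀ c ∈ F₀, el i j c ∈ M) (hst : StabRat M F₀) {v φ : Fin 3 → F}
    (hφv : φ ⬝ᵥ v = 0) (hv : LinearIndependent F₀ v) (hφ : LinearIndependent F₀ φ)
    (ht : tv v φ ∈ M) : False := by
  classical
  set O : Fin 3 → F := ![-φ 2, 0, φ 0] with hO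
  set ω : Fin 3 → F := ![0, -v 2, v 1] with hω
  let G : Subgroup (GL (Fin 3) F) :=
    { carrier := {m | m ∈ M ∧ (m : Matrix (Fin 3) (Fin 3) F) *ᵥ O = O ∧ ω ᵥ* (m : Matrix (Fin 3) (Fin 3) F) = ω}
      mul_mem' := fun {a b} ha hb => ⟨M.mul_mem ha.1 hb.1,
        by rw [Units.val_mul, ← mulVec_mulVec, hb.2.1, ha.2.1],
        by rw [Units.val_mul, ← vecMul_vecMul, ha.2.2, hb.2.2]⟩
      one_mem' := ⟨M.one_mem, by simp, by simp⟩
      inv_mem' := fun {a} ha => ⟨M.inv_mem ha.1, by
          conv_lhs => rw [← ha.2.1]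
          rw [mulVec_mulVec, Units.inv_mul, one_mulVec], by
          conv_lhs => rw [← ha.2.2]
          rw [vecMul_vecMul, Units.mul_inv, vecMul_one]⟩ }
  have h01 : (0 : Fin 3) ≠ 1 := by decide
  have hU : ∀ c : F, c ∈ F₀ → el 0 1 c ∈ G := fun c hc => by
    refine ⟨hel 0 1 h01 c hc, ?_, ?_⟩
    · rw [el, tv_mulVec (el_dot h01 c)]
      simp [hO]
    · rw [el, vecMul_tv (el_dot h01 c)]
      simp [hω]
  let U : Subgroup G :=
    { carrier := {m | ∃ c ∈ F₀, (m : GL (Fin 3) F) = el 0 1 c}
      mul_mem' := fun {a b} ⟨x, hx, ha⟩ ⟨y, hy, hb⟩ =>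
        ⟨x + y, F₀.add_mem hx hy, by rw [Subgroup.coe_mul, ha, hb, el_add h01]⟩
      one_mem' := ⟨0, F₀.zero_mem, by rw [el_zero]; rfl⟩
      inv_mem' := fun {a} ⟨x, hx, ha⟩ => ⟨-x, F₀.neg_mem hx, by rw [Subgroup.coe_inv, ha, el_inv]⟩ }
  -- an element of `G` fixing the point `⟨e₀⟩` is a rational translation
  have key : ∀ (m : G), ((m : GL (Fin 3) F) : Matrix (Fin 3) (Fin 3) F) 1 0 = 0 →
      ((m : GL (Fin 3) F) : Matrix (Fin 3) (Fin 3) F) 2 0 = 0 → m ∈ U := by
    intro m h10 h20
    obtain ⟨hmM, hmO, hmω⟩ := m.2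
    set A := ((m : GL (Fin 3) F) : Matrix (Fin 3) (Fin 3) F) with hA
    have hmK := hst (diagonal ![0, 1, 1]) (m : GL (Fin 3) F) (fun i j => by
        rcases eq_or_ne i j with rfl | h
        · rw [diagonal_apply_eq]
          fin_cases i <;> simp [F₀.zero_mem, F₀.one_mem]
        · rw [diagonal_apply_ne _ h]; exact F₀.zero_mem)
      hmM ⟨Pi.single 0 1, by simp, by
        funext k; fin_cases k <;> simp⟩
      (fun h => by simpa using congrFun (congrFun h 1) 1) (fun x hx => by
        have x1 : x 1 = 0 := by simpa [mulVec_diagonal] using congrFun hx 1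
        have x2 : x 2 = 0 := by simpa [mulVec_diagonal] using congrFun hx 2
        funext k
        fin_cases k <;>
          simp [mulVec_diagonal, mulVec, dotProduct, Fin.sum_univ_three, x1, x2, h10, h20, ← hA])
    obtain ⟨d, hd, hdA⟩ := mem_subfieldSubgroup_one_iff.1 hmK
    have hent : ∀ i j, d * A i j ∈ F₀ := fun i j => by simpa using hdA i j
    have e0 := congrFun hmO 0
    have e1 := congrFun hmO 1
    have e2 := congrFun hmO 2
    simp only [hO, mulVec, dotProduct, Fin.sum_univ_three, Matrix.cons_val_zero, Matrix.cons_val_one,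
      Matrix.cons_val, mul_zero, add_zero, ← hA] at e0 e1 e2
    rw [h10, zero_mul, zero_add] at e1
    rw [h20, zero_mul, zero_add] at e2
    have hφ0 : φ 0 ≠ 0 := hφ.ne_zero 0
    have h12 : A 1 2 = 0 := (mul_eq_zero.1 e1).resolve_right hφ0
    have h22 : A 2 2 = 1 := mul_right_cancel₀ hφ0 (by rw [e2, one_mul])
    have hdF : d ∈ F₀ := by simpa [h22] using hent 2 2
    have hrat : ∀ i j, A i j ∈ F₀ := fun i j => by
      have := F₀.mul_mem (F₀.inv_mem hdF) (hent i j)
      rwa [inv_mul_cancel_left₀ hd] at this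
    have h00 : A 0 0 = 1 ∧ A 0 2 = 0 := by
      by_cases h : A 0 0 = 1
      · refine ⟨h, ?_⟩
        rw [h, one_mul] at e0
        exact (mul_eq_zero.1 (add_eq_left.1 e0)).resolve_right hφ0
      · exfalso
        refine not_mem_div hφ (show (0 : Fin 3) ≠ 2 by decide) ?_
        have h' : φ 2 / φ 0 = A 0 2 / (A 0 0 - 1) := by
          rw [div_eq_div_iff hφ0 (sub_ne_zero.2 h)]
          linear_combination -e0
        rw [h']
        exact F₀.div_mem (hrat 0 2) (F₀.sub_mem (hrat 0 0) F₀.one_mem)
    have f1 := congrFun hmω 1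
    simp only [hω, vecMul, dotProduct, Fin.sum_univ_three, Matrix.cons_val_zero, Matrix.cons_val_one,
      Matrix.cons_val, zero_mul, zero_add, ← hA] at f1
    have hv1 : v 1 ≠ 0 := hv.ne_zero 1
    have h11 : A 1 1 = 1 ∧ A 2 1 = 0 := by
      by_cases h : A 1 1 = 1
      · refine ⟨h, ?_⟩
        rw [h, mul_one] at f1
        exact (mul_eq_zero.1 (add_eq_left.1 f1)).resolve_left hv1
      · exfalso
        refine not_mem_div hv (show (1 : Fin 3) ≠ 2 by decide) ?_
        have h' : v 2 / v 1 = A 2 1 / (A 1 1 - 1) := by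
          rw [div_eq_div_iff hv1 (sub_ne_zero.2 h)]
          linear_combination -f1
        rw [h']
        exact F₀.div_mem (hrat 2 1) (F₀.sub_mem (hrat 1 1) F₀.one_mem)
    refine ⟨A 0 1, hrat 0 1, Units.ext ?_⟩
    rw [el_coe h01, ← hA]
    ext i j
    fin_cases i <;> fin_cases j <;> simp [h00.1, h00.2, h10, h20, h11.1, h11.2, h12, h22]
  -- semi-linear in the second vector
  have hmove : ∀ (m : GL (Fin 3) F) (x y : F), x ≠ 0 → m * el 0 1 x = el 0 1 y * m →
      (m : Matrix (Fin 3) (Fin 3) F) 1 0 = 0 ∧ (m : Matrix (Fin 3) (Fin 3) F) 2 0 = 0 := by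
    intro m x y hx e
    have e' := congrArg (fun g : GL (Fin 3) F => (g : Matrix (Fin 3) (Fin 3) F) *ᵥ Pi.single 1 1) e
    simp only [Units.val_mul, ← mulVec_mulVec, el, tv_mulVec (el_dot h01 x), tv_mulVec (el_dot h01 y),
      mulVec_add, mulVec_smul, single_dotProduct, Pi.single_eq_same, one_mul] at e'
    constructor
    · have := congrFun e' 1
      simpa [mulVec_single, mulVec_single_one, hx] using this
    · have := congrFun e' 2
      simpa [mulVec_single, mulVec_single_one, hx] using this
  have htop := eq_top_of_four_ti U (fun u ⟨x, hx, hu⟩ => Subtype.ext (by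
      rw [Subgroup.coe_mul, hu, el_add h01, show x + x = 0 by linear_combination x * h2, el_zero]
      rfl))
    (hq.trans (Nat.card_le_card_of_injective
      (fun c : F₀ => (⟨⟨el 0 1 (c : F), hU _ c.2⟩, c, c.2, rfl⟩ : U)) fun a b e => Subtype.ext (by
        have := congrFun (congrFun (congrArg (fun g : GL (Fin 3) F => (g : Matrix (Fin 3) (Fin 3) F))
          (congrArg (fun u : U => ((u : G) : GL (Fin 3) F)) e)) 0) 1
        simpa [el_coe h01] using this)))
    (fun u ⟨x, hx, hu⟩ hu1 g hg => by
      have hx0 : x ≠ 0 := fun e => hu1 (Subtype.ext (by rw [hu, e, el_zero]; rfl))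
      have := congrArg Subtype.val hg
      simp only [Subgroup.coe_mul, hu] at this
      obtain ⟨a, b⟩ := hmove _ _ _ hx0 this
      exact key g a b)
    (fun n hn => by
      obtain ⟨y, -, hy⟩ := (Subgroup.mem_normalizer_iff.1 hn ⟨el 0 1 1, hU 1 F₀.one_mem⟩).1
        ⟨1, F₀.one_mem, rfl⟩
      simp only [Subgroup.coe_mul, Subgroup.coe_inv] at hy
      obtain ⟨a, b⟩ := hmove _ _ _ one_ne_zero (mul_inv_eq_iff_eq_mul.1 hy)
      exact key n a b)
  have htG : tv v φ ∈ G := by
    refine ⟨ht, ?_, ?_⟩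
    · rw [tv_mulVec hφv, show φ ⬝ᵥ O = 0 by simp [hO, dotProduct, Fin.sum_univ_three]; ring,
        zero_smul, add_zero]
    · rw [vecMul_tv hφv, show ω ⬝ᵥ v = 0 by simp [hω, dotProduct, Fin.sum_univ_three]; ring,
        zero_smul, add_zero]
  obtain ⟨x, -, hx⟩ : (⟨_, htG⟩ : G) ∈ U := by rw [htop]; exact Subgroup.mem_top _
  have := congrFun (congrArg (fun g : GL (Fin 3) F => (g : Matrix (Fin 3) (Fin 3) F) *ᵥ Pi.single 0 1) hx) 1
  simp [tv_mulVec hφv, el, tv_mulVec (el_dot h01 x), hφ.ne_zero 0, hv.ne_zero 1] at this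

/-- `|F₀| = 2`: the transvection `t` cannot be there. -/
theorem false_of_two {r : ℕ} (hr : r.Prime) (hr2 : r ≠ 2) (hcard : Fintype.card F = Nat.card F₀ ^ r)
    (hq : Nat.card F₀ = 2) (h2 : (2 : F) = 0)
    (hM : subfieldSubgroup F₀ (1 : GL (Fin 3) F) ⊓ specialLinear (Fin 3) F ≤ M)
    (hMsl : M ≤ specialLinear (Fin 3) F) (hst : StabRat M F₀) {v φ : Fin 3 → F}
    (hφv : φ ⬝ᵥ v = 0) (hv : LinearIndependent F₀ v) (hφ : LinearIndependent F₀ φ)
    (ht : tv v φ ∈ M) : False := by
  classical
  haveI : Fintype F₀ := Fintype.ofFinite _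
  have h20 : (2 : F₀) = 0 := Subtype.ext h2
  set ι : GL (Fin 3) F₀ →* GL (Fin 3) F := GeneralLinearGroup.map (F₀.subtype : F₀ →+* F) with hι
  have hιv : ∀ (y : GL (Fin 3) F₀) i j, (ι y : Matrix (Fin 3) (Fin 3) F) i j = ((y : Matrix (Fin 3) (Fin 3) F₀) i j : F) :=
    fun _ _ _ => rfl
  have hone : ∀ a : F₀, a ≠ 0 → a = 1 := by
    intro a ha
    by_contra h
    have := Finset.card_le_univ ({0, 1, a} : Finset F₀)
    rw [← Nat.card_eq_fintype_card, hq, Finset.card_insert_of_notMem (by simp [Ne.symm ha]),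
      Finset.card_pair (Ne.symm h)] at this
    omega
  have hrat : ∀ y : GL (Fin 3) F₀, IsRatSL F₀ (ι y) := fun y => isRatSL_map y (hone _ y.det_ne_zero)
  let e : GL (Fin 3) F₀ →* M := ι.codRestrict M fun y => hM (hrat y).mem
  have hev : ∀ y, (e y : GL (Fin 3) F) = ι y := fun _ => rfl
  have hinj : Function.Injective e := fun a b h => by
    apply Units.ext
    ext i j
    have := congrFun (congrFun (congrArg (fun g : GL (Fin 3) F => (g : Matrix (Fin 3) (Fin 3) F))
      (congrArg Subtype.val h)) i) j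
    rw [hev, hev, hιv, hιv] at this
    exact this
  set H := e.range with hH
  -- rational elements of `M`
  have hHmem : ∀ x : M, (x : GL (Fin 3) F) ∈ subfieldSubgroup F₀ (1 : GL (Fin 3) F) → x ∈ H := by
    intro x hx
    set A := ((x : GL (Fin 3) F) : Matrix (Fin 3) (Fin 3) F) with hA
    obtain ⟨c, hc, hcA⟩ := mem_subfieldSubgroup_one_iff.1 hx
    let B : Matrix (Fin 3) (Fin 3) F₀ := fun i j => ⟨_, hcA i j⟩
    have hB : B.map F₀.subtype = c • A := rfl
    have hdet : (B.det : F) = c ^ 3 := by
      have := RingHom.map_det F₀.subtype B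
      rw [RingHom.mapMatrix_apply, hB, det_smul, Fintype.card_fin] at this
      have hAdet : A.det = 1 := by
        have hsl := hMsl x.2
        rw [specialLinear, MonoidHom.mem_ker] at hsl
        rw [hA, ← Matrix.GeneralLinearGroup.val_det_apply, hsl, Units.val_one]
      rwa [hAdet, mul_one] at this
    have hB0 : B.det ≠ 0 := fun h => pow_ne_zero 3 hc (by rw [← hdet, h]; simp)
    have hc3 : c ^ 3 = 1 := by rw [← hdet, hone _ hB0]; simp
    have hc1 : c = 1 := by
      have h1 := orderOf_dvd_of_pow_eq_one hc3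
      have h2' := orderOf_dvd_of_pow_eq_one (FiniteField.pow_card_sub_one_eq_one c hc)
      have h3 : Nat.Coprime 3 (Fintype.card F - 1) := by
        rw [Nat.Prime.coprime_iff_not_dvd Nat.prime_three]
        intro h
        obtain ⟨k, hk⟩ := hr.odd_of_ne_two hr2
        have h4 : 2 ^ r % 3 = 2 := by rw [hk, pow_succ, pow_mul, Nat.mul_mod, Nat.pow_mod]; norm_num
        rw [hcard, hq] at h
        obtain ⟨m, hm⟩ := h
        generalize 2 ^ r = n at h4 hm
        omega
      exact orderOf_eq_one_iff.1 (Nat.eq_one_of_dvd_coprimes h3 h1 h2')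
    refine ⟨GeneralLinearGroup.mkOfDetNeZero B hB0, Subtype.ext (Units.ext ?_)⟩
    show B.map F₀.subtype = A
    rw [hB, hc1, one_smul]
  have hHrat : ∀ y, (e y : GL (Fin 3) F) ∈ subfieldSubgroup F₀ (1 : GL (Fin 3) F) := fun y => (hrat y).mem.1
  -- the involutions
  haveI := Fintype.ofFinite M
  set I : Finset M := Finset.univ.filter fun x => x ∈ H ∧ x * x = 1 ∧ x ≠ 1 with hI
  have hImem : ∀ x, x ∈ I ↔ x ∈ H ∧ x * x = 1 ∧ x ≠ 1 := fun x => by simp [I]
  set i₀ : GL (Fin 3) F₀ := el 0 2 1
  have hclass : ∀ i ∈ I, ∃ P, e (P * i₀ * P⁻¹) = i := by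
    intro i hi
    obtain ⟨⟨y, rfl⟩, hy, hy1⟩ := (hImem i).1 hi
    obtain ⟨P, hP⟩ := exists_conj_of_involution h20 (y := y) (hinj (by rw [map_mul, hy, map_one]))
      (fun h => hy1 (by rw [h, map_one]))
    exact ⟨P, by rw [hP]⟩
  have hcen : ∀ i ∈ I, ∀ g : M, g * i = i * g → g ∈ H := by
    intro i hi g hg
    obtain ⟨⟨y, rfl⟩, hy, hy1⟩ := (hImem i).1 hi
    have hg' := congrArg Subtype.val hg
    simp only [Subgroup.coe_mul, hev] at hg'
    have hy' := congrArg Subtype.val hy
    simp only [Subgroup.coe_mul, hev, Subgroup.coe_one] at hy'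
    set Y := (ι y : Matrix (Fin 3) (Fin 3) F) with hY
    have hYY : Y * Y = 1 := by rw [hY, ← Units.val_mul, hy', Units.val_one]
    have hne : Y - 1 ≠ 0 := fun h => hy1 (Subtype.ext (Units.ext (by
      rw [hev, ← hY, sub_eq_zero.1 h]; rfl)))
    refine hHmem g (hst (Y - 1) g (hrat y).1.sub_one g.2 ?_ hne fun x hx => ?_)
    · obtain ⟨x, hx⟩ : ∃ x, (Y - 1) *ᵥ x ≠ 0 := by
        by_contra h
        push Not at h
        exact hne (Matrix.ext_of_mulVec_single fun k => by rw [h, zero_mulVec])
      refine ⟨_, hx, ?_⟩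
      rw [mulVec_mulVec, sub_mul, mul_sub, hYY, one_mul, mul_one,
        show (1 : Matrix (Fin 3) (Fin 3) F) - Y - (Y - 1) = (2 : F) • (1 - Y) by rw [two_smul]; abel,
        h2, zero_smul, zero_mulVec]
    · rw [sub_mulVec, one_mulVec, sub_eq_zero] at hx ⊢
      rw [mulVec_mulVec, hY, ← Units.val_mul, ← hg', Units.val_mul, ← mulVec_mulVec, ← hY, hx]
  obtain ⟨D, hDH, hDodd, s, hs2, hcount⟩ := exists_odd_inverted H I hImem
    (fun i hi j hj => by
      obtain ⟨P, rfl⟩ := hclass i hi
      obtain ⟨Q, rfl⟩ := hclass j hj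
      exact ⟨e (Q * P⁻¹), ⟨_, rfl⟩, by simp only [map_mul, map_inv]; group⟩)
    hcen (s₀ := ⟨_, ht⟩) (Subtype.ext (by
      show tv v φ * tv v φ = 1
      rw [tv_mul_left hφv hφv, show v + v = 0 by rw [← two_smul F, h2, zero_smul], tv_zero_left]))
    (fun ⟨y, hy⟩ => by
      have hy' : ∀ i j, ((1 : Matrix (Fin 3) (Fin 3) F) + vecMulVec v φ) i j ∈ F₀ := fun i j => by
        have := congrArg Subtype.val hy
        simp only [hev] at this
        rw [← tv_coe hφv, ← this]
        exact (hrat y).1 i j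
      have h00 := F₀.sub_mem (hy' 0 0) (ratMat_one (ι := Fin 3) F₀ 0 0)
      have h10 := F₀.sub_mem (hy' 1 0) (ratMat_one (ι := Fin 3) F₀ 1 0)
      simp only [Matrix.add_apply, vecMulVec_apply, add_sub_cancel_left] at h00 h10
      refine not_mem_div hv (show (0 : Fin 3) ≠ 1 by decide) ?_
      have := F₀.div_mem h10 h00
      rwa [mul_div_mul_right _ _ (hφ.ne_zero 0)] at this)
  -- at least twenty-one involutions
  have hL : Nat.card (GL (Fin 3) F₀) = 168 := by
    rw [Matrix.card_GL_field, Fin.prod_univ_three, ← Nat.card_eq_fintype_card, hq]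
    norm_num
  haveI := Fintype.ofFinite (GL (Fin 3) F₀)
  have hC : ∀ i ∈ I, (Finset.univ.filter fun y : GL (Fin 3) F₀ => e (y * i₀ * y⁻¹) = i).card ≤ 8 := by
    intro i _
    set S := Finset.univ.filter fun y : GL (Fin 3) F₀ => e (y * i₀ * y⁻¹) = i
    by_cases hS : S.Nonempty
    · obtain ⟨y₀, hy₀⟩ := hS
      have hent : ∀ y ∈ S, ∀ (c : GL (Fin 3) F₀), c = y₀⁻¹ * y → (c : Matrix (Fin 3) (Fin 3) F₀) =
          !![1, (c : Matrix (Fin 3) (Fin 3) F₀) 0 1, (c : Matrix (Fin 3) (Fin 3) F₀) 0 2;
            0, 1, (c : Matrix (Fin 3) (Fin 3) F₀) 1 2; 0, 0, 1] := by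
        intro y hy c hc
        have h := hinj ((Finset.mem_filter.1 hy).2.trans (Finset.mem_filter.1 hy₀).2.symm)
        have hcc : c * i₀ = i₀ * c := by
          rw [hc]
          calc y₀⁻¹ * y * i₀ = y₀⁻¹ * (y * i₀ * y⁻¹) * y := by group
            _ = i₀ * (y₀⁻¹ * y) := by rw [h]; group
        set C := (c : Matrix (Fin 3) (Fin 3) F₀) with hC
        have h02 : (0 : Fin 3) ≠ 2 := by decide
        have hm := congrArg (fun g : GL (Fin 3) F₀ => (g : Matrix (Fin 3) (Fin 3) F₀)) hcc
        simp only [Units.val_mul, i₀, el_coe h02, mul_add, add_mul, mul_one, one_mul, ← hC] at hm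
        have hs := add_left_cancel hm
        have g00 := congrFun (congrFun hs 0) 0
        have g01 := congrFun (congrFun hs 0) 1
        have g12 := congrFun (congrFun hs 1) 2
        have g22 := congrFun (congrFun hs 2) 2
        have g02 := congrFun (congrFun hs 0) 2
        simp [mul_apply, Fin.sum_univ_three, single_apply] at g00 g01 g12 g22 g02
        have h20' : C 2 0 = 0 := by first | exact g00.symm | exact g00 | exact g22 | exact g22.symm
        have h10 : C 1 0 = 0 := by first | exact g12 | exact g12.symm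
        have h21 : C 2 1 = 0 := by first | exact g01.symm | exact g01
        have hd := c.det_ne_zero
        rw [← hC, det_fin_three, h10, h20', h21] at hd
        have d0 : C 0 0 ≠ 0 := fun h => hd (by rw [h]; ring)
        have d1 : C 1 1 ≠ 0 := fun h => hd (by rw [h]; ring)
        have d2 : C 2 2 ≠ 0 := fun h => hd (by rw [h]; ring)
        ext i j
        fin_cases i <;> fin_cases j <;> simp [h10, h20', h21, hone _ d0, hone _ d1, hone _ d2]
      refine (Finset.card_le_card_of_injOn
        (fun y => ![((y₀⁻¹ * y : GL (Fin 3) F₀) : Matrix (Fin 3) (Fin 3) F₀) 0 1,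
          ((y₀⁻¹ * y : GL (Fin 3) F₀) : Matrix (Fin 3) (Fin 3) F₀) 0 2,
          ((y₀⁻¹ * y : GL (Fin 3) F₀) : Matrix (Fin 3) (Fin 3) F₀) 1 2])
        (t := (Finset.univ : Finset (Fin 3 → F₀))) (fun _ _ => Finset.mem_univ _) fun a ha b hb h => ?_).trans ?_
      · apply mul_left_cancel (a := y₀⁻¹)
        apply Units.ext
        have a1 := congrFun h 0
        have a2 := congrFun h 1
        have a3 := congrFun h 2
        simp only [Matrix.cons_val_zero, Matrix.cons_val_one, Matrix.cons_val] at a1 a2 a3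
        rw [hent a ha _ rfl, hent b hb _ rfl, a1, a2, a3]
      · rw [Finset.card_univ, Fintype.card_fun, Fintype.card_fin, ← Nat.card_eq_fintype_card, hq]
        norm_num
    · rw [Finset.not_nonempty_iff_eq_empty.1 hS]; simp
  have h21I : 168 ≤ 8 * I.card := by
    rw [← hL, Nat.card_eq_fintype_card, ← Finset.card_univ]
    refine Finset.card_le_mul_card_image_of_maps_to (f := fun y => e (y * i₀ * y⁻¹)) (fun y _ => ?_) 8 hC
    refine (hImem _).2 ⟨⟨_, rfl⟩, ?_, ?_⟩
    · rw [← map_mul, show y * i₀ * y⁻¹ * (y * i₀ * y⁻¹) = y * (i₀ * i₀) * y⁻¹ by group,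
        show i₀ * i₀ = 1 by
          rw [el_add (by decide), show (1 : F₀) + 1 = 0 by linear_combination h20, el_zero]]
      simp
    · intro h
      rw [← map_one e] at h
      have h' : i₀ = 1 := by
        have := hinj h
        rw [mul_inv_eq_one] at this
        exact mul_left_cancel (this.trans (mul_one y).symm)
      have := congrFun (congrFun (congrArg (fun g : GL (Fin 3) F₀ => (g : Matrix (Fin 3) (Fin 3) F₀)) h') 0) 2
      simp [i₀, el_coe (show (0 : Fin 3) ≠ 2 by decide)] at this
  -- pull back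
  set D' := D.comap e with hD'
  have hD'c : Nat.card D' = Nat.card D := by
    rw [Nat.card_congr (D'.equivMapOfInjective e hinj).toEquiv, hD', Subgroup.map_comap_eq,
      inf_eq_right.2 hDH]
  have hdvd : Nat.card D ∣ 168 := by
    rw [← hD'c, ← hL]; exact Subgroup.card_subgroup_dvd_card D'
  have hodd : ¬ 2 ∣ Nat.card D := fun h => by
    haveI : Fact (Nat.Prime 2) := ⟨Nat.prime_two⟩
    obtain ⟨⟨d, hd⟩, hdo⟩ := exists_prime_orderOf_dvd_card' (G := D) 2 h
    rw [Subgroup.orderOf_mk] at hdo
    obtain ⟨h1, h1'⟩ := orderOf_eq_prime_iff.1 hdo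
    exact h1' (hDodd d hd (by rw [← pow_two]; exact h1))
  have hsub : {d : M | d ∈ D ∧ s * d * s = d⁻¹} ⊆ (D : Set M) := fun d hd => hd.1
  have hge : 21 ≤ Nat.card D := by
    have := Set.ncard_le_ncard hsub (Set.toFinite _)
    rw [← Nat.card_coe_set_eq (D : Set M)] at this
    change _ ≤ Nat.card D at this
    omega
  have h21 : Nat.card D = 21 := by
    have hle := Nat.le_of_dvd (by norm_num) hdvd
    have : ∀ n < 169, n ∣ 168 → ¬ 2 ∣ n → 21 ≤ n → n = 21 := by decide +kernel
    exact this _ (by omega) hdvd hodd hge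
  have hall : ∀ d ∈ D, s * d * s = d⁻¹ := fun d hd => by
    have heq := Set.eq_of_subset_of_ncard_le hsub (by
      rw [← Nat.card_coe_set_eq (D : Set M)]
      change Nat.card D ≤ _
      omega) (Set.toFinite _)
    exact ((Set.ext_iff.1 heq d).2 hd).2
  have habel : ∀ a ∈ D, ∀ b ∈ D, a * b = b * a := fun a ha b hb => by
    have h := hall _ (D.mul_mem ha hb)
    have h' : s * (a * b) * s = a⁻¹ * b⁻¹ := by
      rw [← hall a ha, ← hall b hb, mul_assoc (s * a) s, ← mul_assoc s (s * b) s, ← mul_assoc s s b,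
        hs2, one_mul]
      group
    rw [h', _root_.mul_inv_rev] at h
    have := congrArg Inv.inv h
    simpa using this.symm
  haveI : Fact (Nat.Prime 3) := ⟨Nat.prime_three⟩
  haveI : Fact (Nat.Prime 7) := ⟨by norm_num⟩
  obtain ⟨⟨a, ha⟩, hao⟩ := exists_prime_orderOf_dvd_card' (G := D) 3 (by rw [h21]; norm_num)
  obtain ⟨⟨b, hb⟩, hbo⟩ := exists_prime_orderOf_dvd_card' (G := D) 7 (by rw [h21]; norm_num)
  rw [Subgroup.orderOf_mk] at hao hbo
  obtain ⟨a', rfl⟩ := hDH ha
  obtain ⟨b', rfl⟩ := hDH hb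
  rw [orderOf_injective e hinj] at hao hbo
  have hcomm : Commute a' b' := hinj (by rw [map_mul, map_mul]; exact habel _ ha _ hb)
  have := hcomm.orderOf_mul_eq_mul_orderOf_of_coprime (by rw [hao, hbo]; norm_num)
  have h7 := orderOf_le_seven hq (a' * b')
  rw [this, hao, hbo] at h7
  omega

/-- Between the subfield group and `SL₃` there is nothing else. -/
theorem le_subfield_or_specialLinear_le {F₀ : Subfield F} {r : ℕ} (hr : r.Prime)
    (hcard : Fintype.card F = Nat.card F₀ ^ r) {M : Subgroup (GL (Fin 3) F)}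
    (hM : subfieldSubgroup F₀ (1 : GL (Fin 3) F) ⊓ specialLinear (Fin 3) F ≤ M)
    (hMsl : M ≤ specialLinear (Fin 3) F) :
    M ≤ subfieldSubgroup F₀ (1 : GL (Fin 3) F) ∨ specialLinear (Fin 3) F ≤ M := by
  classical
  by_cases hSL : specialLinear (Fin 3) F ≤ M
  · exact Or.inr hSL
  refine Or.inl fun g hg => ?_
  have hc3 : Fintype.card (Fin 3) = 3 := Fintype.card_fin 3
  have hel : ∀ i j : (Fin 3), i ≠ j → ∀ c ∈ F₀, el i j c ∈ M := fun i j hij c hc =>
    hM ⟨mem_subfieldSubgroup_one_of_rat (ratMat_el hij hc), el_mem_specialLinear _ _ _⟩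
  have hrad : ∀ S : Finset (Fin 3), ∀ u ∈ M, ∀ X : Matrix (Fin 3) (Fin 3) F, InRad S X →
      (u : Matrix (Fin 3) (Fin 3) F) = 1 + X → RatMat F₀ X := fun S u hu X hX huX =>
    Classical.byContradiction fun h =>
      hSL (specialLinear_le_of_irrational_rad hr hcard (by omega) hel hu hX huX h)
  -- stabilisers of rational subspaces
  have hstab : ∀ (A : Matrix (Fin 3) (Fin 3) F) (x : GL (Fin 3) F), RatMat F₀ A → x ∈ M →
      (∃ v, v ≠ 0 ∧ A *ᵥ v = 0) → A ≠ 0 →
      (∀ v, A *ᵥ v = 0 → A *ᵥ ((x : Matrix (Fin 3) (Fin 3) F) *ᵥ v) = 0) →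
      x ∈ subfieldSubgroup F₀ (1 : GL (Fin 3) F) := by
    intro A x hA hx hne hA0 hst
    obtain ⟨S, h, hh, hSne, hS⟩ := exists_ratSL_coord hA hne
    have hSu : S ≠ Finset.univ := by
      rintro rfl
      refine hA0 (Matrix.ext_of_mulVec_single fun i => ?_)
      have := (hS (((h⁻¹ : GL (Fin 3) F) : Matrix (Fin 3) (Fin 3) F) *ᵥ Pi.single i 1)).2 fun i hi =>
        absurd (Finset.mem_univ i) hi
      rw [mulVec_mulVec (Pi.single i (1 : F)) (h : Matrix (Fin 3) (Fin 3) F), Units.mul_inv, one_mulVec] at this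
      rw [this, zero_mulVec]
    have h1 := mem_subfield_of_stab_coord hM hMsl (hrad S) hSne hSu
      (g := h⁻¹ * x * h) (M.mul_mem (M.mul_mem (M.inv_mem (hM hh.mem)) hx) (hM hh.mem))
      fun i j hi hj => by
        have h2 : (Pi.single j 1 : (Fin 3) → F) ∈ coordSub S := fun k hk =>
          Pi.single_eq_of_ne (fun e : k = j => hk (e ▸ hj)) _
        have h3 := hst _ ((hS _).2 h2)
        have h4 : ((h⁻¹ * x * h : GL (Fin 3) F) : Matrix (Fin 3) (Fin 3) F) *ᵥ Pi.single j 1 ∈ coordSub S := by
          have e : (h : Matrix (Fin 3) (Fin 3) F) *ᵥ (((h⁻¹ * x * h : GL (Fin 3) F) : Matrix (Fin 3) (Fin 3) F) *ᵥ Pi.single j 1) =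
              (x : Matrix (Fin 3) (Fin 3) F) *ᵥ ((h : Matrix (Fin 3) (Fin 3) F) *ᵥ Pi.single j 1) := by
            rw [mulVec_mulVec (Pi.single j (1 : F)), mulVec_mulVec (Pi.single j (1 : F)),
              ← Units.val_mul, ← Units.val_mul, show h * (h⁻¹ * x * h) = x * h by group]
          rw [← hS, e]
          exact h3
        have h5 := h4 i hi
        rwa [mulVec_single_one] at h5
    have h6 := Subgroup.mul_mem _ (Subgroup.mul_mem _ hh.mem.1 h1)
      (Subgroup.inv_mem _ hh.mem.1)
    rwa [show h * (h⁻¹ * x * h) * h⁻¹ = x by group] at h6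
  -- every conjugate of a rational transvection is in the subfield group
  have hconj : ∀ i j : (Fin 3), i ≠ j → g * el i j 1 * g⁻¹ ∈ subfieldSubgroup F₀ (1 : GL (Fin 3) F) := by
    intro i j hij
    set v := (g : Matrix (Fin 3) (Fin 3) F) *ᵥ Pi.single i 1 with hv
    set φ := (Pi.single j (1 : F) : (Fin 3) → F) ᵥ* ((g⁻¹ : GL (Fin 3) F) : Matrix (Fin 3) (Fin 3) F) with hφ
    have htv : g * el i j 1 * g⁻¹ = tv v φ := by rw [el, conj_tv]
    have hφv : φ ⬝ᵥ v = 0 := by rw [hφ, hv, dot_conj]; simp [hij]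
    have htM : tv v φ ∈ M := by
      rw [← htv]; exact M.mul_mem (M.mul_mem hg (hel i j hij 1 F₀.one_mem)) (M.inv_mem hg)
    rw [htv]
    have i₀ : (Fin 3) := i
    by_cases hdep : ∃ z : (Fin 3) → F₀, z ≠ 0 ∧ ∑ k, (z k : F) * v k = 0
    · obtain ⟨z, hz, hzv⟩ := hdep
      obtain ⟨k₀, hk₀⟩ := Function.ne_iff.mp hz
      let A : Matrix (Fin 3) (Fin 3) F := Matrix.of fun p q => if p = i₀ then (z q : F) else 0
      have hA : RatMat F₀ A := fun p q => by
        simp only [A, Matrix.of_apply]
        split_ifs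
        · exact (z q).2
        · exact F₀.zero_mem
      have hAv : A *ᵥ v = 0 := by
        funext p
        simp only [A, mulVec, dotProduct, Matrix.of_apply, Pi.zero_apply]
        split_ifs with h
        · exact hzv
        · simp
      have hv0 : v ≠ 0 := fun h => by
        have := mulVec_injective_iff_isUnit.mpr g.isUnit (h.trans (mulVec_zero (g : Matrix (Fin 3) (Fin 3) F)).symm)
        simp at this
      refine hstab A _ hA htM ⟨v, hv0, hAv⟩ (fun h => hk₀ ?_) fun w hw => ?_
      · have := congrFun (congrFun h i₀) k₀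
        simp [A] at this
        exact this
      · rw [tv_mulVec hφv, mulVec_add, mulVec_smul, hw, hAv, smul_zero, add_zero]
    push Not at hdep
    -- the coordinates of `v` are independent
    have hvind : LinearIndependent F₀ v := by
      rw [Fintype.linearIndependent_iff]
      intro z hz k
      by_contra hk
      exact hdep z (fun h => hk (by rw [h]; rfl)) hz
    have hnr : Fintype.card (Fin 3) ≤ r := by
      have : Fintype F₀ := Fintype.ofFinite _
      have hfin : Module.finrank F₀ F = r := by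
        have h := Module.card_eq_pow_finrank (K := F₀) (V := F)
        rw [hcard, Nat.card_eq_fintype_card] at h
        exact (Nat.pow_right_injective (Fintype.one_lt_card) h).symm
      rw [← hfin]
      exact hvind.fintype_card_le_finrank
    by_cases h2 : (2 : F) = 0
    · exfalso
      have hr2 : r ≠ 2 := by omega
      have hφind : LinearIndependent F₀ φ := by
        by_contra hni
        obtain ⟨z, hz, hz0⟩ : ∃ z : Fin 3 → F₀, ∑ k, z k • φ k = 0 ∧ z ≠ 0 := by
          rw [Fintype.linearIndependent_iff] at hni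
          push Not at hni
          obtain ⟨z, hz, k, hk⟩ := hni
          exact ⟨z, hz, fun h => hk (congrFun h k)⟩
        set z' : Fin 3 → F := fun k => (z k : F) with hz'
        have hz'0 : z' ≠ 0 := fun h => hz0 (funext fun k => Subtype.ext (congrFun h k))
        have hφz : φ ⬝ᵥ z' = 0 := by
          rw [← hz]; exact Finset.sum_congr rfl fun k _ => mul_comm _ _
        let A : Matrix (Fin 3) (Fin 3) F := Matrix.toLin'.symm (crossProduct z')
        have hA : ∀ x, A *ᵥ x = crossProduct z' x := fun x => by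
          rw [← Matrix.toLin'_apply, LinearEquiv.apply_symm_apply]
        have htK := hstab A (tv v φ) (fun i j => by
            rw [show A i j = crossProduct z' (Pi.single j 1) i by rw [← hA, mulVec_single_one]; rfl, cross_apply]
            fin_cases i <;> fin_cases j <;> simp [z', F₀.zero_mem, F₀.neg_mem, Pi.single_apply])
          htM ⟨z', hz'0, by rw [hA, cross_self]⟩ (fun h => by
            obtain ⟨x, hx⟩ : ∃ x, ∀ c : F, c • z' ≠ x := by
              by_contra hh
              push Not at hh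
              have h1 := hh (Pi.single 0 1)
              have h2 := hh (Pi.single 1 1)
              obtain ⟨c, hc⟩ := h1
              obtain ⟨d, hd⟩ := h2
              have c0 : c ≠ 0 := fun e => by simpa [e] using congrFun hc 0
              have := congrFun hc 1
              simp [c0] at this
              simpa [this] using congrFun hd 1
            have hne := ((indep_or_smul hz'0 x).resolve_right fun ⟨c, hc⟩ => hx c hc).cross_ne_zero
            rw [← hA, h, zero_mulVec] at hne
            exact hne rfl)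
          (fun x hx => by
            rcases indep_or_smul hz'0 x with hi | ⟨c, rfl⟩
            · exact absurd (hA x ▸ hx) hi.cross_ne_zero
            · rw [tv_mulVec hφv, dotProduct_smul, hφz, smul_zero, zero_smul, add_zero]; exact hx)
        -- a rational transvection would have a rational centre up to a scalar
        obtain ⟨c, hc, hcA⟩ := mem_subfieldSubgroup_one_iff.1 htK
        obtain ⟨k, hk⟩ := Function.ne_iff.1 (show φ ≠ 0 from fun h => by
          have := vecMul_injective_iff_isUnit.mpr (g⁻¹).isUnit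
            (h.trans (zero_vecMul ((g⁻¹ : GL (Fin 3) F) : Matrix (Fin 3) (Fin 3) F)).symm)
          simp at this)
        have hfix := SubfieldMax.ratMat_of_fix hr hcard htK (by
          have hle : LinearMap.ker (dotProductEquiv F (Fin 3) φ) ≤ fixSp (tv v φ : Matrix (Fin 3) (Fin 3) F) :=
            fun x hx => by rw [mem_fixSp, tv_mulVec hφv, show φ ⬝ᵥ x = 0 from hx, zero_smul, add_zero]
          have h3 := (dotProductEquiv F (Fin 3) φ).finrank_range_add_finrank_ker
          have h4 := Submodule.finrank_le (LinearMap.range (dotProductEquiv F (Fin 3) φ))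
          rw [Module.finrank_self] at h4
          rw [Module.finrank_fin_fun] at h3
          have h5 := Submodule.finrank_mono hle
          have := Nat.mul_le_mul hnr (show 2 ≤ Module.finrank F (fixSp (tv v φ : Matrix (Fin 3) (Fin 3) F)) by omega)
          simp only [Fintype.card_fin] at this ⊢
          omega)
        have hent : ∀ i, v i * φ k ∈ F₀ := fun i => by
          have := F₀.sub_mem (hfix i k) (ratMat_one F₀ i k)
          rwa [tv_coe hφv, Matrix.add_apply, vecMulVec_apply, add_sub_cancel_left] at this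
        refine not_mem_div hvind (show (0 : Fin 3) ≠ 1 by decide) ?_
        have := F₀.div_mem (hent 1) (hent 0)
        rwa [mul_div_mul_right _ _ hk] at this
      rcases Nat.lt_or_ge (Nat.card F₀) 4 with hq | hq
      · refine false_of_two hr hr2 hcard ?_ h2 hM hMsl hstab hφv hvind hφind htM
        haveI : Fintype F₀ := Fintype.ofFinite _
        obtain ⟨p, hp⟩ := CharP.exists F₀
        obtain ⟨n, hpp, hn⟩ := FiniteField.card F₀ p
        have h20 : ((2 : ℕ) : F₀) = 0 := by
          have : (2 : F₀) = 0 := Subtype.ext h2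
          exact_mod_cast this
        have hp2 : p = 2 := (Nat.prime_dvd_prime_iff_eq hpp Nat.prime_two).1 ((CharP.cast_eq_zero_iff F₀ p 2).1 h20)
        rw [Nat.card_eq_fintype_card, hn, hp2] at hq ⊢
        have : (n : ℕ) < 2 := (Nat.pow_lt_pow_iff_right (a := 2) (by norm_num)).1 (by simpa using hq)
        have := n.pos
        rw [show (n : ℕ) = 1 by omega, pow_one]
      · exact false_of_four_le hq h2 hel hstab hφv hvind hφind htM
    · -- odd characteristic: Dickson
      exfalso
      have hr2 : r ≠ 2 := by omega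
      have hφ0 : φ ≠ 0 := fun h => by
        have := vecMul_injective_iff_isUnit.mpr (g⁻¹).isUnit
          (h.trans (zero_vecMul ((g⁻¹ : GL (Fin 3) F) : Matrix (Fin 3) (Fin 3) F)).symm)
        simp at this
      obtain ⟨a, ha⟩ := Function.ne_iff.mp hφ0
      obtain ⟨b, hab, hb⟩ : ∃ b, a ≠ b ∧ φ a * v b ∉ F₀ := by
        by_contra hc
        push Not at hc
        obtain ⟨b, -, hba⟩ := Finset.exists_mem_notMem_of_card_lt_card (s := ({a} : Finset (Fin 3)))
          (t := Finset.univ) (by simp)
        obtain ⟨b', -, hb'⟩ := Finset.exists_mem_notMem_of_card_lt_card (s := ({a, b} : Finset (Fin 3)))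
          (t := Finset.univ) (lt_of_le_of_lt Finset.card_le_two (by simp))
        simp only [Finset.mem_insert, Finset.mem_singleton, not_or] at hba hb'
        have h1 := hc b (Ne.symm hba)
        have h1' := hc b' (Ne.symm hb'.1)
        let z : (Fin 3) → F₀ := Pi.single b ⟨_, h1'⟩ - Pi.single b' ⟨_, h1⟩
        refine hdep z (fun h => ?_) ?_
        · have hv0 : v b ≠ 0 := hvind.ne_zero b
          have := congrArg Subtype.val (congrFun h b')
          simp [z, hb'.2, hv0] at this
          exact ha this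
        · simp only [z, Pi.sub_apply, Subfield.coe_sub, sub_mul, Finset.sum_sub_distrib]
          rw [Finset.sum_eq_single b (fun k _ hk => by simp [hk]) (by simp),
            Finset.sum_eq_single b' (fun k _ hk => by simp [hk]) (by simp)]
          simp
          ring
      have hel' := SubfieldMax.exists_el_irrational hr hr2 hcard h2 hφv hab hb htM (hel a b hab 1 F₀.one_mem)
      refine hSL (specialLinear_le_of_el hr hcard (by omega) hel hab hel' fun h => hb ?_)
      rw [← inv_inv (φ a * v b)]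
      exact F₀.inv_mem h
  -- hence `g` is rational up to a scalar
  set G := (g : Matrix (Fin 3) (Fin 3) F) with hG
  set K := ((g⁻¹ : GL (Fin 3) F) : Matrix (Fin 3) (Fin 3) F) with hK
  have hE : ∀ i j k l, i ≠ j → G k i * K j l ∈ F₀ := by
    intro i j k l hij
    have hfix : Fintype.card (Fin 3) < r * Module.finrank F
        (fixSp ((g * el i j 1 * g⁻¹ : GL (Fin 3) F) : Matrix (Fin 3) (Fin 3) F)) := by
      rw [finrank_fixSp_conj]
      have h1 : Fintype.card (Fin 3) - 1 ≤ Module.finrank F (fixSp (el i j (1 : F) : Matrix (Fin 3) (Fin 3) F)) := by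
        have hle : coordSub (Finset.univ.erase j) ≤ fixSp (el i j (1 : F) : Matrix (Fin 3) (Fin 3) F) := fun x hx => by
          rw [mem_fixSp, el, tv_mulVec (el_dot hij 1), single_dotProduct, hx j (by simp), mul_zero,
            zero_smul, add_zero]
        have := Submodule.finrank_mono hle
        rwa [finrank_coordSub, Finset.card_erase_of_mem (Finset.mem_univ j), Finset.card_univ] at this
      have := Nat.mul_le_mul (hr.two_le) h1
      omega
    have hrat := SubfieldMax.ratMat_of_fix hr hcard (hconj i j hij) hfix k l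
    rw [Units.val_mul, Units.val_mul, el_coe hij, mul_add, mul_one, add_mul, Units.mul_inv,
      Matrix.add_apply] at hrat
    have hent : (G * single i j (1 : F) * K) k l = G k i * K j l := by
      rw [mul_assoc, mul_apply, Finset.sum_eq_single i]
      · simp
      · intro m _ hm
        simp [hm]
      · simp
    rw [hG, hK] at hent ⊢
    rw [← hent]
    have := F₀.sub_mem hrat (ratMat_one F₀ k l)
    rwa [add_sub_cancel_left] at this
  have hcol : ∀ i, ∃ k, G k i ≠ 0 := by
    intro i
    by_contra hc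
    push Not at hc
    have := congrFun (congrFun (Units.inv_mul g) i) i
    rw [mul_apply, one_apply_eq, Finset.sum_eq_zero (fun k _ => by rw [← hG, hc k, mul_zero])] at this
    exact zero_ne_one this
  choose κ hκ using hcol
  have hrow : ∀ j, ∃ l, K j l ≠ 0 := by
    intro j
    by_contra hc
    push Not at hc
    have := congrFun (congrFun (Units.inv_mul g) j) j
    rw [mul_apply, one_apply_eq, Finset.sum_eq_zero (fun k _ => by rw [← hK, hc k, zero_mul])] at this
    exact zero_ne_one this
  have hnt : ∀ i i' : (Fin 3), ∃ j, j ≠ i ∧ j ≠ i' := by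
    intro i i'
    obtain ⟨j, -, hj⟩ := Finset.exists_mem_notMem_of_card_lt_card (s := ({i, i'} : Finset (Fin 3)))
      (t := Finset.univ) (lt_of_le_of_lt Finset.card_le_two (by simp))
    simp only [Finset.mem_insert, Finset.mem_singleton, not_or] at hj
    exact ⟨j, hj⟩
  obtain ⟨i₁⟩ : Nonempty (Fin 3) := Fintype.card_pos_iff.mp (by omega)
  have hclass : ∀ i, G (κ i₁) i₁ / G (κ i) i ∈ F₀ := by
    intro i
    obtain ⟨j, hj1, hj2⟩ := hnt i₁ i
    obtain ⟨l, hl⟩ := hrow j
    have := F₀.div_mem (hE i₁ j (κ i₁) l (Ne.symm hj1)) (hE i j (κ i) l (Ne.symm hj2))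
    rwa [mul_div_mul_right _ _ hl] at this
  have hKrat : RatMat F₀ (G (κ i₁) i₁ • K) := by
    intro j l
    obtain ⟨i, hi, -⟩ := hnt j j
    have := F₀.mul_mem (hclass i) (hE i j (κ i) l hi)
    rw [← mul_assoc, div_mul_cancel₀ _ (hκ i)] at this
    rwa [Matrix.smul_apply, smul_eq_mul]
  have := mem_subfieldSubgroup_one_iff.2 ⟨_, hκ i₁, hKrat⟩
  exact inv_mem_iff.mp this

/-- The subfield subgroup is maximal in `SL` in dimension three. -/
theorem isMaximalIn_subfield₃ {F₀ : Subfield F} {r : ℕ} (hr : r.Prime)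
    (hcard : Fintype.card F = Nat.card F₀ ^ r) (P : GL (Fin 3) F) :
    IsMaximalIn (specialLinear (Fin 3) F) (subfieldSubgroup F₀ P ⊓ specialLinear (Fin 3) F) := by
  haveI : (specialLinear (Fin 3) F).Normal := MonoidHom.normal_ker _
  set c := (MulAut.conj P).toMonoidHom with hc
  have hK : ∀ x, x ∈ subfieldSubgroup F₀ P ↔ P⁻¹ * x * P ∈ subfieldSubgroup F₀ (1 : GL (Fin 3) F) := by
    intro x
    simp only [subfieldSubgroup, map_one, Subgroup.mem_map]
    constructor
    · rintro ⟨y, hy, rfl⟩
      exact ⟨y, hy, by simp [mul_assoc]⟩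
    · rintro ⟨y, hy, e⟩
      exact ⟨y, hy, by
        have e' : y = P⁻¹ * x * P := by simpa using e
        subst e'
        simp [mul_assoc]⟩
  have hsl : ∀ x, x ∈ specialLinear (Fin 3) F ↔ P⁻¹ * x * P ∈ specialLinear (Fin 3) F := by
    intro x
    constructor
    · intro h
      have := Subgroup.Normal.conj_mem inferInstance x h P⁻¹
      rwa [inv_inv] at this
    · intro h
      have := Subgroup.Normal.conj_mem inferInstance _ h P
      rwa [show P * (P⁻¹ * x * P) * P⁻¹ = x by group] at this
  have hc3 : Fintype.card (Fin 3) = 3 := Fintype.card_fin 3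
  refine isMaximalIn_of inf_le_right ?_ fun M hHM hMK g hg hg' => ?_
  · obtain ⟨z, hz⟩ : ∃ z : F, z ∉ F₀ := by
      by_contra h
      push Not at h
      have : Fintype F₀ := Fintype.ofFinite _
      have h1 : Nat.card F₀ = Fintype.card F := by
        rw [Nat.card_eq_fintype_card]
        exact Fintype.card_congr ⟨Subtype.val, fun x => ⟨x, h x⟩, fun _ => rfl, fun _ => rfl⟩
      rw [h1] at hcard
      exact absurd (Nat.pow_eq_self_iff Fintype.one_lt_card |>.1 hcard.symm) hr.ne_one
    let e := (Fintype.equivFin (Fin 3)).symm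
    set a := e ⟨0, by omega⟩ with ha
    set b := e ⟨1, by omega⟩ with hb
    set s := e ⟨2, by omega⟩ with hs
    have hab : a ≠ b := fun h => by simpa using congrArg Fin.val (e.injective h)
    have has : s ≠ a := fun h => by simpa using congrArg Fin.val (e.injective h)
    refine ⟨P * el a b z * P⁻¹, (hsl _).2 ?_, fun hmem => ?_⟩
    · rw [show P⁻¹ * (P * el a b z * P⁻¹) * P = el a b z by group]
      exact el_mem_specialLinear _ _ _
    · have h1 := (hK _).1 hmem.1
      rw [show P⁻¹ * (P * el a b z * P⁻¹) * P = el a b z by group] at h1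
      obtain ⟨d, hd, hd'⟩ := mem_subfieldSubgroup_one_iff.1 h1
      have h2 := hd' s s
      have h3 := hd' a b
      rw [Matrix.smul_apply, el_coe hab, Matrix.add_apply, one_apply, single_apply] at h2 h3
      rw [if_pos rfl, if_neg (fun e => has e.1.symm), add_zero, smul_eq_mul, mul_one] at h2
      rw [if_neg hab, if_pos ⟨rfl, rfl⟩, zero_add, smul_eq_mul] at h3
      apply hz
      have := F₀.mul_mem (F₀.inv_mem h2) h3
      rwa [inv_mul_cancel_left₀ hd] at this
  · let M' : Subgroup (GL (Fin 3) F) := M.comap c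
    have hmem : ∀ x, x ∈ M' ↔ P * x * P⁻¹ ∈ M := fun x => Iff.rfl
    have h1 : subfieldSubgroup F₀ (1 : GL (Fin 3) F) ⊓ specialLinear (Fin 3) F ≤ M' := by
      rintro x ⟨hx1, hx2⟩
      refine (hmem x).2 (hHM ⟨(hK _).2 ?_, (hsl _).2 ?_⟩)
      · rwa [show P⁻¹ * (P * x * P⁻¹) * P = x by group]
      · rwa [show P⁻¹ * (P * x * P⁻¹) * P = x by group]
    have h2 : M' ≤ specialLinear (Fin 3) F := fun x hx => by
      have := (hsl _).1 (hMK ((hmem x).1 hx))
      rwa [show P⁻¹ * (P * x * P⁻¹) * P = x by group] at this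
    rcases le_subfield_or_specialLinear_le hr hcard h1 h2 with h | h
    · refine absurd ?_ hg'
      refine ⟨(hK g).2 (h ((hmem _).2 ?_)), hMK hg⟩
      rwa [show P * (P⁻¹ * g * P) * P⁻¹ = g by group]
    · intro x hx
      have := (hmem _).1 (h ((hsl x).1 hx))
      rwa [show P * (P⁻¹ * x * P) * P⁻¹ = x by group] at this

end CfsgLib.SLThree
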