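import Cfsg.Agent.MaxSub.Transvection

/-!
# Transvections in subgroups of `GL₃(F)`

Linear algebra of points and lines of the plane, the incidence rules for transvections of a subgroup,
and the criterion: an irreducible subgroup with one complete root group contains `SL₃(F)`.
-/

set_option autoImplicit false
set_option linter.unusedSectionVars false

namespace CfsgLib.SLThree

open Matrix Cfsg.Geo CfsgLib.MaxSub

variable {F : Type*} [Field F]


/-- `M` contains a non-trivial transvection with centre `⟨v⟩` and axis `ker a`. -/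
def Flag (M : Subgroup (GL (Fin 3) F)) (v a : Fin 3 → F) : Prop :=
  a ⬝ᵥ v = 0 ∧ v ≠ 0 ∧ a ≠ 0 ∧ ∃ c : F, c ≠ 0 ∧ tv (c • v) a ∈ M

/-- Two vectors are not proportional. -/
def Indep (a b : Fin 3 → F) : Prop := ∀ s t : F, s • a + t • b = 0 → s = 0 ∧ t = 0

theorem indep_of_dot {a b x : (Fin 3 → F)} (ha : a ⬝ᵥ x = 0) (hb : b ⬝ᵥ x ≠ 0) (h0 : a ≠ 0) : Indep a b := by
  intro s t h
  have ht : t = 0 := by
    have := congrArg (· ⬝ᵥ x) h
    simpa [add_dotProduct, smul_dotProduct, ha, hb] using this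
  subst ht
  exact ⟨(smul_eq_zero.1 (by simpa using h)).resolve_right h0, rfl⟩

theorem indep_symm {a b : (Fin 3 → F)} (h : Indep a b) : Indep b a := fun s t e =>
  let ⟨h1, h2⟩ := h t s (by rw [add_comm]; exact e); ⟨h2, h1⟩

theorem Indep.left {a b : (Fin 3 → F)} (h : Indep a b) : a ≠ 0 := fun e => one_ne_zero (h 1 0 (by simp [e])).1

theorem Indep.right {a b : (Fin 3 → F)} (h : Indep a b) : b ≠ 0 := (indep_symm h).left

theorem indep_or_smul {a : (Fin 3 → F)} (ha : a ≠ 0) (b : (Fin 3 → F)) : Indep a b ∨ ∃ c : F, c • a = b := by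
  by_cases h : ∃ c : F, c • a = b
  · exact Or.inr h
  · refine Or.inl fun s t e => ?_
    by_cases ht : t = 0
    · subst ht
      exact ⟨(smul_eq_zero.1 (by simpa using e)).resolve_right ha, rfl⟩
    · exact absurd ⟨-s / t, by
        rw [div_eq_inv_mul, mul_smul, neg_smul, ← eq_neg_of_add_eq_zero_right e, inv_smul_smul₀ ht]⟩ h

theorem Indep.linearIndependent {a b : (Fin 3 → F)} (h : Indep a b) : LinearIndependent F ![a, b] :=
  LinearIndependent.pair_iff.2 h

/-- The cross product of independent vectors is not zero. -/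
theorem Indep.cross_ne_zero {a b : (Fin 3 → F)} (h : Indep a b) : crossProduct a b ≠ 0 :=
  crossProduct_ne_zero_iff_linearIndependent.2 h.linearIndependent

/-- A functional kills a non-zero vector. -/
theorem exists_ne_zero_dot (a : (Fin 3 → F)) : ∃ x : Fin 3 → F, x ≠ 0 ∧ a ⬝ᵥ x = 0 := by
  by_cases h2 : a 2 = 0
  · exact ⟨Pi.single 2 1, by simp, by simp [dotProduct, Fin.sum_univ_three, h2]⟩
  · refine ⟨![1, 0, -(a 0) / a 2], fun e => ?_, ?_⟩
    · simpa using congrFun e 0
    · simp [dotProduct, Fin.sum_univ_three]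
      field_simp
      ring

/-- The vectors killed by two independent functionals form a line. -/
theorem exists_smul_of_dot {a b v w : (Fin 3 → F)} (h : Indep a b) (hv : v ≠ 0) (hav : a ⬝ᵥ v = 0)
    (hbv : b ⬝ᵥ v = 0) (haw : a ⬝ᵥ w = 0) (hbw : b ⬝ᵥ w = 0) : ∃ c : F, c • v = w := by
  rcases indep_or_smul hv w with hi | hc
  · exfalso
    let W : Submodule F (Fin 3 → F) :=
      { carrier := {x | a ⬝ᵥ x = 0 ∧ b ⬝ᵥ x = 0}
        add_mem' := fun hx hy => ⟨by simp [dotProduct_add, hx.1, hy.1], by simp [dotProduct_add, hx.2, hy.2]⟩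
        zero_mem' := by simp
        smul_mem' := fun c x hx => ⟨by simp [dotProduct_smul, hx.1], by simp [dotProduct_smul, hx.2]⟩ }
    let f : (Fin 3 → F) →ₗ[F] Fin 2 → F :=
      { toFun := fun x => ![a ⬝ᵥ x, b ⬝ᵥ x]
        map_add' := fun x y => by ext i; fin_cases i <;> simp [dotProduct_add]
        map_smul' := fun c x => by ext i; fin_cases i <;> simp [dotProduct_smul] }
    have hsurj : Function.Surjective f := by
      obtain ⟨x, hax, hbx⟩ := exists_dot_eq_zero_one (a := a) (b := b) fun c e => by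
        exact one_ne_zero (neg_eq_zero.1 (h c (-1) (by rw [e]; simp)).2)
      obtain ⟨y, hby, hay⟩ := exists_dot_eq_zero_one (a := b) (b := a) fun c e => by
        exact one_ne_zero (neg_eq_zero.1 (h (-1) c (by rw [e]; simp)).1)
      intro z
      refine ⟨z 0 • y + z 1 • x, ?_⟩
      ext i
      fin_cases i <;> simp [f, dotProduct_add, dotProduct_smul, hax, hbx, hby, hay]
    have hk := f.finrank_range_add_finrank_ker
    rw [LinearMap.range_eq_top.2 hsurj, finrank_top, Module.finrank_fin_fun,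
      Module.finrank_fin_fun] at hk
    have hli := hi.linearIndependent
    have hle : Submodule.span F (Set.range ![v, w]) ≤ LinearMap.ker f := by
      rw [Submodule.span_le]
      rintro _ ⟨i, rfl⟩
      fin_cases i <;> simp [f, hav, hbv, haw, hbw]
    have := Submodule.finrank_mono hle
    rw [finrank_span_eq_card hli, Fintype.card_fin] at this
    omega
  · exact hc

/-- Two independent functionals killing `v` span all that do. -/
theorem exists_combination {a b v x : (Fin 3 → F)} (h : Indep a b) (hv : v ≠ 0) (hav : a ⬝ᵥ v = 0)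
    (hbv : b ⬝ᵥ v = 0) (hx : x ⬝ᵥ v = 0) : ∃ s t : F, s • a + t • b = x := by
  have hx' : x ∈ Submodule.span F ({a, b} : Set (Fin 3 → F)) := by
    by_contra hn
    obtain ⟨y, hy, hyx⟩ := exists_dot_of_notMem _ hn
    have hay : a ⬝ᵥ y = 0 := by rw [dotProduct_comm]; exact hy a (Submodule.subset_span (by simp))
    have hby : b ⬝ᵥ y = 0 := by rw [dotProduct_comm]; exact hy b (Submodule.subset_span (by simp))
    obtain ⟨c, rfl⟩ := exists_smul_of_dot h hv hav hbv hay hby
    simp [smul_dotProduct, dotProduct_comm v x, hx] at hyx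
  exact Submodule.mem_span_pair.1 hx'

variable {M : Subgroup (GL (Fin 3) F)} {v w a b : (Fin 3 → F)}

theorem Flag.dot (h : Flag M v a) : a ⬝ᵥ v = 0 := h.1
theorem Flag.centre_ne (h : Flag M v a) : v ≠ 0 := h.2.1
theorem Flag.axis_ne (h : Flag M v a) : a ≠ 0 := h.2.2.1

theorem flag_of_tv (h0 : a ⬝ᵥ v = 0) (hv : v ≠ 0) (ha : a ≠ 0) (h : tv v a ∈ M) : Flag M v a :=
  ⟨h0, hv, ha, 1, one_ne_zero, by simpa using h⟩

theorem Flag.smul_centre (h : Flag M v a) {s : F} (hs : s ≠ 0) : Flag M (s • v) a := by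
  obtain ⟨h0, hv, ha, c, hc, hm⟩ := h
  refine ⟨by simp [dotProduct_smul, h0], smul_ne_zero hs hv, ha, c / s, div_ne_zero hc hs, ?_⟩
  rwa [smul_smul, div_mul_cancel₀ _ hs]

theorem Flag.smul_axis (h : Flag M v a) {s : F} (hs : s ≠ 0) : Flag M v (s • a) := by
  obtain ⟨h0, hv, ha, c, hc, hm⟩ := h
  refine ⟨by simp [smul_dotProduct, h0], hv, smul_ne_zero hs ha, c / s, div_ne_zero hc hs, ?_⟩
  rwa [tv_smul_right, smul_smul, mul_div_cancel₀ _ hs]

theorem Flag.mono {M' : Subgroup (GL (Fin 3) F)} (hle : M ≤ M') (h : Flag M v a) : Flag M' v a := by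
  obtain ⟨h0, hv, ha, c, hc, hm⟩ := h
  exact ⟨h0, hv, ha, c, hc, hle hm⟩

theorem Flag.conj (h : Flag M v a) {g : GL (Fin 3) F} (hg : g ∈ M) :
    Flag M ((g : Matrix (Fin 3) (Fin 3) F) *ᵥ v) (a ᵥ* ((g⁻¹ : GL (Fin 3) F) : Matrix (Fin 3) (Fin 3) F)) := by
  obtain ⟨h0, hv, ha, c, hc, hm⟩ := h
  refine ⟨by rw [dot_conj, h0], ?_, ?_, c, hc, ?_⟩
  · intro e
    apply hv
    have := congrArg (((g⁻¹ : GL (Fin 3) F) : Matrix (Fin 3) (Fin 3) F) *ᵥ ·) e
    simpa [mulVec_mulVec] using this
  · intro e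
    apply ha
    have := congrArg (· ᵥ* (g : Matrix (Fin 3) (Fin 3) F)) e
    simpa [vecMul_vecMul] using this
  · rw [← mulVec_smul]; exact tv_mem_conj hg hm

/-- The axis of one transvection passes to the centre of another lying on it. -/
theorem Flag.pass_axis (h : Flag M v a) (h' : Flag M w b) (haw : a ⬝ᵥ w = 0) (hbv : b ⬝ᵥ v ≠ 0) :
    Flag M w a := by
  obtain ⟨h0, hv, ha, c, hc, hm⟩ := h
  obtain ⟨h0', hw, hb, d, hd, hm'⟩ := h'
  have := tv_rule_axis (v := c • v) (a := a) (w := d • w) (b := b) (by simp [dotProduct_smul, h0])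
    (by simp [dotProduct_smul, h0']) (by simp [dotProduct_smul, haw]) hm hm'
  rw [tv_smul_right, smul_smul] at this
  refine ⟨haw, hw, ha, _, ?_, this⟩
  simp [dotProduct_smul, hc, hd, hbv]

/-- The centre of one transvection passes to the axis of another containing it. -/
theorem Flag.pass_centre (h : Flag M v a) (h' : Flag M w b) (hbv : b ⬝ᵥ v = 0) (haw : a ⬝ᵥ w ≠ 0) :
    Flag M v b := by
  obtain ⟨h0, hv, ha, c, hc, hm⟩ := h
  obtain ⟨h0', hw, hb, d, hd, hm'⟩ := h'
  have := tv_rule_centre (v := c • v) (a := a) (w := d • w) (b := b) (by simp [dotProduct_smul, h0])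
    (by simp [dotProduct_smul, h0']) (by simp [dotProduct_smul, hbv]) hm hm'
  rw [smul_smul] at this
  refine ⟨hbv, hv, hb, _, ?_, this⟩
  simp [dotProduct_smul, hc, hd, haw]

/-- All centres on an axis have that axis. -/
theorem Flag.spread (h : Flag M v a) (h' : Flag M w b) (haw : a ⬝ᵥ w = 0) : Flag M w a := by
  by_cases hbv : b ⬝ᵥ v = 0
  · rcases indep_or_smul h.centre_ne w with hi | ⟨c, hc⟩
    · rcases indep_or_smul h.axis_ne b with hab | ⟨c, hc⟩
      · exact absurd (exists_smul_of_dot hab h.centre_ne h.dot hbv haw h'.dot)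
          (fun ⟨c, hc⟩ => by
            have := (hi c (-1) (by rw [hc]; simp)).2
            simp at this)
      · have hc0 : c ≠ 0 := fun e => h'.axis_ne (by rw [← hc, e, zero_smul])
        have := h'.smul_axis (s := c⁻¹) (inv_ne_zero hc0)
        rwa [← hc, inv_smul_smul₀ hc0] at this
    · have hc0 : c ≠ 0 := fun e => h'.centre_ne (by rw [← hc, e, zero_smul])
      exact hc ▸ h.smul_centre hc0
  · exact h.pass_axis h' haw hbv

/-- All axes through a centre belong to it. -/
theorem Flag.spread' (h : Flag M v a) (h' : Flag M w b) (hbv : b ⬝ᵥ v = 0) : Flag M v b := by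
  by_cases haw : a ⬝ᵥ w = 0
  · exact h'.spread h hbv
  · exact h.pass_centre h' hbv haw

theorem flag_of_rootIn (h : RootIn M v a) (hv : v ≠ 0) (ha : a ≠ 0) : Flag M v a :=
  flag_of_tv h.1 hv ha h.mem

/-- A root group from a scalar multiple. -/
theorem rootIn_of_smul {c : F} (hc : c ≠ 0) (h : RootIn M (c • v) a) : RootIn M v a := by
  simpa [hc] using h.smul_left c⁻¹

/-- Two independent root groups with the same axis give the full axis. -/
theorem fullAxis_of_two (hi : Indep v w) (ha : a ≠ 0) (h1 : RootIn M v a) (h2 : RootIn M w a) :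
    FullAxis M a := by
  refine fullAxis_of_centres fun x hx => ?_
  obtain ⟨s, t, rfl⟩ := exists_combination (x := x) hi ha
    (by rw [dotProduct_comm]; exact h1.1) (by rw [dotProduct_comm]; exact h2.1)
    (by rw [dotProduct_comm]; exact hx)
  exact mem_centres.2 ((h1.smul_left s).add_left (h2.smul_left t))

theorem exists_moved (hirr : Irreducible M) (hv : v ≠ 0) :
    ∃ g ∈ M, Indep v ((g : Matrix (Fin 3) (Fin 3) F) *ᵥ v) := by
  by_contra hn
  push Not at hn
  rcases hirr (Submodule.span F {v}) (fun g hg x hx => by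
    obtain ⟨c, rfl⟩ := Submodule.mem_span_singleton.1 hx
    obtain ⟨d, hd⟩ := (indep_or_smul hv ((g : Matrix (Fin 3) (Fin 3) F) *ᵥ v)).resolve_left (hn g hg)
    rw [mulVec_smul, ← hd, smul_smul]
    exact Submodule.mem_span_singleton.2 ⟨_, rfl⟩) with h | h
  · exact hv (by simpa using h)
  · have := congrArg (fun W : Submodule F (Fin 3 → F) => Module.finrank F W) h
    simp [finrank_span_singleton hv] at this

/-- An irreducible group with all root groups of one centre contains `SL₃`. -/
theorem specialLinear_le_of_fullCentre (hirr : Irreducible M) (hv : v ≠ 0)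
    (hfull : ∀ x : (Fin 3 → F), x ⬝ᵥ v = 0 → RootIn M v x) : specialLinear (Fin 3) F ≤ M := by
  obtain ⟨g, hg, hi⟩ := exists_moved hirr hv
  set w := (g : Matrix (Fin 3) (Fin 3) F) *ᵥ v with hw
  set c := crossProduct v w with hc
  have hcv : c ⬝ᵥ v = 0 := by rw [hc, dotProduct_comm, dot_self_cross]
  have hcw : c ⬝ᵥ w = 0 := by rw [hc, dotProduct_comm, dot_cross_self]
  have h2 := (hfull (c ᵥ* (g : Matrix (Fin 3) (Fin 3) F)) (by rwa [← dotProduct_mulVec])).conj hg
  rw [vecMul_vecMul, Units.mul_inv, vecMul_one] at h2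
  exact specialLinear_le_of_fullAxis hirr hi.cross_ne_zero
    (fullAxis_of_two hi hi.cross_ne_zero (hfull c hcv) h2)

/-- An irreducible group with a root group contains `SL₃`. -/
theorem specialLinear_le_of_rootIn (hirr : Irreducible M) (hv : v ≠ 0) (ha : a ≠ 0)
    (h : RootIn M v a) : specialLinear (Fin 3) F ≤ M := by
  by_contra hn
  have hfa : ∀ {x d : (Fin 3 → F)}, d ≠ 0 → ∀ {y : (Fin 3 → F)}, Indep x y → RootIn M x d → RootIn M y d → False :=
    fun hd _ hi h1 h2 => hn (specialLinear_le_of_fullAxis hirr hd (fullAxis_of_two hi hd h1 h2))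
  have step : ∀ {v a w b : (Fin 3 → F)}, v ≠ 0 → a ≠ 0 → w ≠ 0 → b ≠ 0 → RootIn M v a → RootIn M w b →
      (a ⬝ᵥ w = 0 ↔ b ⬝ᵥ v = 0) := by
    intro v a w b hv ha hw hb h h'
    constructor
    · intro haw
      by_contra hbv
      exact hfa ha (indep_symm (indep_of_dot (a := w) (b := v) (x := b)
        (by rw [dotProduct_comm]; exact h'.1) (by rwa [dotProduct_comm]) hw)) h
        (h.rule_axis h'.1 h'.mem haw hbv)
    · intro hbv
      by_contra haw
      have h2 := h.rule_centre h'.1 h'.mem hbv haw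
      have hab : Indep a b := indep_symm (indep_of_dot h'.1 haw hb)
      refine hn (specialLinear_le_of_fullCentre hirr hv fun x hx => ?_)
      obtain ⟨s, t, rfl⟩ := exists_combination hab hv h.1 h2.1 hx
      exact (h.smul_right s).add_right (h2.smul_right t)
  -- an opposite pair
  obtain ⟨g, hg, hag⟩ : ∃ g ∈ M, a ⬝ᵥ ((g : Matrix (Fin 3) (Fin 3) F) *ᵥ v) ≠ 0 := by
    by_contra hall
    push Not at hall
    let W := Submodule.span F {x | ∃ g ∈ M, x = (g : Matrix (Fin 3) (Fin 3) F) *ᵥ v}
    rcases hirr W (fun g hg x hx => by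
      have hle : W ≤ W.comap (Matrix.toLin' (g : Matrix (Fin 3) (Fin 3) F)) := by
        refine Submodule.span_le.2 ?_
        rintro _ ⟨k, hk, rfl⟩
        simp only [SetLike.mem_coe, Submodule.mem_comap, Matrix.toLin'_apply, mulVec_mulVec]
        exact Submodule.subset_span ⟨g * k, M.mul_mem hg hk, by simp⟩
      simpa using hle hx) with hW | hW
    · have : v ∈ W := Submodule.subset_span ⟨1, M.one_mem, by simp⟩
      rw [hW, Submodule.mem_bot] at this
      exact hv this
    · obtain ⟨y, hy⟩ := exists_dot_eq_one ha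
      have hle : W ≤ LinearMap.ker (dotProductEquiv F (Fin 3) a) := by
        refine Submodule.span_le.2 ?_
        rintro _ ⟨k, hk, rfl⟩
        exact hall k hk
      rw [hW] at hle
      have : a ⬝ᵥ y = 0 := hle (Submodule.mem_top (x := y))
      rw [dotProduct_comm, hy] at this
      exact one_ne_zero this
  set w := (g : Matrix (Fin 3) (Fin 3) F) *ᵥ v with hw
  set b := a ᵥ* ((g⁻¹ : GL (Fin 3) F) : Matrix (Fin 3) (Fin 3) F) with hb
  have hf := (flag_of_rootIn h hv ha).conj hg
  have h' : RootIn M w b := h.conj hg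
  have hbv : b ⬝ᵥ v ≠ 0 := fun e => hag ((step hv ha hf.centre_ne hf.axis_ne h h').2 e)
  -- the root groups of the line through the two centres
  have pencil : ∀ c : F, RootIn M (v + c • w) (a - ((a ⬝ᵥ w) / (b ⬝ᵥ v) * c) • b) := by
    intro c
    have hc : b ⬝ᵥ ((c / (b ⬝ᵥ v)) • w) = 0 := by simp [dotProduct_smul, h'.1]
    have := h.conj (h'.2 (c / (b ⬝ᵥ v)))
    rw [tv_mulVec hc, smul_smul, tv_inv, vecMul_tv (by simp [dotProduct_smul, h'.1])] at this
    convert this using 1
    · rw [mul_div_cancel₀ _ hbv]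
    · simp only [dotProduct_neg, dotProduct_smul, smul_eq_mul, sub_eq_add_neg, ← neg_smul]
      congr 2
      ring
  have hab : Indep a b := indep_of_dot h.1 hbv ha
  have hvw : Indep v w := indep_of_dot (a := v) (b := w) (x := a)
    (by rw [dotProduct_comm]; exact h.1) (by rwa [dotProduct_comm]) hv
  set O := crossProduct a b with hO
  have hO0 : O ≠ 0 := hab.cross_ne_zero
  have haO : a ⬝ᵥ O = 0 := dot_self_cross a b
  have hbO : b ⬝ᵥ O = 0 := dot_cross_self a b
  -- every centre is on that line or at the intersection of the two axes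
  have key : ∀ g ∈ M, (∃ s t : F, (g : Matrix (Fin 3) (Fin 3) F) *ᵥ v = s • v + t • w) ∨
      ∃ c : F, c • O = (g : Matrix (Fin 3) (Fin 3) F) *ᵥ v := by
    intro k hk
    have hd := h.conj hk
    have hfd := (flag_of_rootIn h hv ha).conj hk
    set x := (k : Matrix (Fin 3) (Fin 3) F) *ᵥ v with hx
    set d := a ᵥ* ((k⁻¹ : GL (Fin 3) F) : Matrix (Fin 3) (Fin 3) F)
    -- a member of the pencil with `x` on its axis
    have aux : ∀ {R c : (Fin 3 → F)}, R ≠ 0 → c ≠ 0 → RootIn M R c → c ⬝ᵥ x = 0 → c ⬝ᵥ O = 0 →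
        ∃ s : F, s • R = x := by
      intro R c hR hc hRc hcx _
      rcases indep_or_smul hR x with hi | hs
      · exfalso
        have hdR := (step hR hc hfd.centre_ne hfd.axis_ne hRc hd).1 hcx
        rcases indep_or_smul hc d with hcd | ⟨s, hs⟩
        · obtain ⟨u, hu⟩ := exists_smul_of_dot hcd hR hRc.1 hdR hcx hfd.dot
          have := (hi u (-1) (by rw [hu]; simp)).2
          simp at this
        · have hs0 : s ≠ 0 := fun e => hfd.axis_ne (by rw [← hs, e, zero_smul])
          have := hd.smul_right s⁻¹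
          rw [← hs, inv_smul_smul₀ hs0] at this
          exact hfa hc hi hRc this
      · exact hs
    by_cases hbx : b ⬝ᵥ x = 0
    · obtain ⟨s, hs⟩ := aux hf.centre_ne hf.axis_ne h' hbx hbO
      exact Or.inl ⟨0, s, by rw [zero_smul, zero_add]; exact hs.symm⟩
    · set c := (a ⬝ᵥ x) / (b ⬝ᵥ x) * ((b ⬝ᵥ v) / (a ⬝ᵥ w)) with hc
      have haw : a ⬝ᵥ w ≠ 0 := hag
      have hco : (a ⬝ᵥ w) / (b ⬝ᵥ v) * c = (a ⬝ᵥ x) / (b ⬝ᵥ x) := by
        rw [hc]; field_simp
      obtain ⟨s, hs⟩ := aux (R := v + c • w) (fun e => one_ne_zero (hvw 1 c (by simpa using e)).1)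
        (fun e => by
          have := (hab 1 (-((a ⬝ᵥ w) / (b ⬝ᵥ v) * c)) (by rw [one_smul, neg_smul, ← sub_eq_add_neg, e])).1
          exact one_ne_zero this)
        (pencil c)
        (by rw [hco, sub_dotProduct, smul_dotProduct, smul_eq_mul, div_mul_cancel₀ _ hbx, sub_self])
        (by simp [sub_dotProduct, smul_dotProduct, haO, hbO])
      exact Or.inl ⟨s, s * c, by rw [← hs, smul_add, smul_smul]⟩
  have hOL : ∀ s t : F, s • v + t • w ≠ 0 → ∀ c : F, c • O ≠ s • v + t • w := by
    intro s t hne c e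
    have h1 := congrArg (a ⬝ᵥ ·) e
    have h2 := congrArg (b ⬝ᵥ ·) e
    simp [dotProduct_add, dotProduct_smul, haO, hbO, h.1, h'.1, hbv, hag] at h1 h2
    exact hne (by simp [h1, h2])
  -- the line is invariant
  let L := Submodule.span F ({v, w} : Set (Fin 3 → F))
  have hinv : ∀ k ∈ M, (k : Matrix (Fin 3) (Fin 3) F) *ᵥ v ∈ L := by
    intro k hk
    rcases key k hk with ⟨s, t, e⟩ | ⟨c, hc⟩
    · exact e ▸ Submodule.mem_span_pair.2 ⟨s, t, rfl⟩
    · exfalso
      -- apply a transvection of the first root group to the centre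
      have hne : ((k : Matrix (Fin 3) (Fin 3) F) *ᵥ v) ≠ 0 := ((flag_of_rootIn h hv ha).conj hk).centre_ne
      have hc0 : c ≠ 0 := fun e => hne (by rw [← hc, e, zero_smul])
      have hkg := key (k * g) (M.mul_mem hk hg)
      have hk1 := key (k * tv w b) (M.mul_mem hk h'.mem)
      rw [Units.val_mul, ← mulVec_mulVec] at hkg hk1
      rw [tv_mulVec h'.1, mulVec_add, mulVec_smul, ← hc] at hk1
      change (∃ s t : F, (k : Matrix (Fin 3) (Fin 3) F) *ᵥ w = s • v + t • w) ∨
        ∃ d : F, d • O = (k : Matrix (Fin 3) (Fin 3) F) *ᵥ w at hkg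
      set y := (k : Matrix (Fin 3) (Fin 3) F) *ᵥ w with hy
      have hinj : ∀ s t : F, s • ((k : Matrix (Fin 3) (Fin 3) F) *ᵥ v) + t • y = 0 → s = 0 ∧ t = 0 := by
        intro s t e
        refine hvw s t ?_
        have := congrArg (((k⁻¹ : GL (Fin 3) F) : Matrix (Fin 3) (Fin 3) F) *ᵥ ·) e
        simpa [hy, mulVec_add, mulVec_smul, mulVec_mulVec] using this
      rw [← hc] at hinj
      rcases hkg with ⟨s, t, e⟩ | ⟨d, hd⟩
      · rcases hk1 with ⟨s', t', e'⟩ | ⟨d', hd'⟩
        · refine hOL (s' - (b ⬝ᵥ v) * s) (t' - (b ⬝ᵥ v) * t) ?_ c ?_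
          · intro e0
            have : c • O = 0 := by
              have h1 : c • O = (s' - (b ⬝ᵥ v) * s) • v + (t' - (b ⬝ᵥ v) * t) • w := by
                rw [sub_smul, sub_smul, mul_smul, mul_smul,
                  show s' • v - (b ⬝ᵥ v) • s • v + (t' • w - (b ⬝ᵥ v) • t • w) =
                    (s' • v + t' • w) - (b ⬝ᵥ v) • (s • v + t • w) by rw [smul_add]; abel,
                  ← e', ← e]
                simp
              rw [h1, e0]
            exact hO0 ((smul_eq_zero.1 this).resolve_left hc0)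
          · rw [sub_smul, sub_smul, mul_smul, mul_smul,
              show s' • v - (b ⬝ᵥ v) • s • v + (t' • w - (b ⬝ᵥ v) • t • w) =
                (s' • v + t' • w) - (b ⬝ᵥ v) • (s • v + t • w) by rw [smul_add]; abel,
              ← e', ← e]
            simp
        · have := (hinj (1 - d' / c) (b ⬝ᵥ v) (by
            rw [smul_smul, sub_mul, one_mul, div_mul_cancel₀ _ hc0, sub_smul, hd']; abel)).2
          exact hbv this
      · exact hc0 (by
          have := (hinj (d / c) (-1) (by rw [smul_smul, div_mul_cancel₀ _ hc0, hd]; simp)).2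
          simp at this)
  let W : Submodule F (Fin 3 → F) := Submodule.span F {x | ∃ k ∈ M, x = (k : Matrix (Fin 3) (Fin 3) F) *ᵥ v}
  rcases hirr W (fun k hk x hx => by
    have hle : W ≤ W.comap (Matrix.toLin' (k : Matrix (Fin 3) (Fin 3) F)) := by
      refine Submodule.span_le.2 ?_
      rintro _ ⟨j, hj, rfl⟩
      simp only [SetLike.mem_coe, Submodule.mem_comap, Matrix.toLin'_apply, mulVec_mulVec]
      exact Submodule.subset_span ⟨k * j, M.mul_mem hk hj, by simp⟩
    simpa using hle hx) with hW | hW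
  · have : v ∈ W := Submodule.subset_span ⟨1, M.one_mem, by simp⟩
    rw [hW, Submodule.mem_bot] at this
    exact hv this
  · have hWL : W ≤ L := Submodule.span_le.2 fun x ⟨k, hk, e⟩ => e ▸ hinv k hk
    rw [hW] at hWL
    obtain ⟨s, t, e⟩ := Submodule.mem_span_pair.1 (hWL (Submodule.mem_top (x := O)))
    exact hOL s t (by rwa [e]) 1 (by rw [one_smul, e])

/-- Over a prime field a transvection gives its root group. -/
theorem Flag.rootIn_of_prime [Fintype F] {p : ℕ} [Fact p.Prime] (hF : Fintype.card F = p)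
    (h : Flag M v a) : RootIn M v a := by
  obtain ⟨h0, hv, ha, c, hc, hm⟩ := h
  refine ⟨h0, fun d => ?_⟩
  have hn : ∀ n : ℕ, tv (((n : F) * c) • v) a ∈ M := by
    intro n
    induction n with
    | zero => simp [tv_zero_left]
    | succ n ih =>
      rw [Nat.cast_succ, add_mul, one_mul, add_smul]
      exact tv_mem_add_left (by simp [dotProduct_smul, h0]) (by simp [dotProduct_smul, h0]) ih hm
  haveI : CharP F p := charP_of_card_eq_prime hF
  obtain ⟨k, hk⟩ := (ZMod.castHom_bijective F hF).surjective (d / c)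
  have := hn k.val
  rwa [← map_natCast (ZMod.castHom dvd_rfl F), ZMod.natCast_zmod_val, hk, div_mul_cancel₀ _ hc] at this

end CfsgLib.SLThree
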