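import Cfsg.Agent.SLThree.Slopes
import Cfsg.Agent.MaxSub.UnitarySimilarity

/-!
# The unitary similarities in dimension three are maximal in `SL₃`

The isotropic points are centres of transvections with their polars as axes. Any further transvection
gives an isotropic centre with all lines through it as axes, or a tangent all of whose points are
centres with a second axis; both give more slopes than a proper subfield holds.
-/

set_option autoImplicit false
set_option linter.unusedSectionVars false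

namespace CfsgLib.SLThree

open Matrix Cfsg.Geo CfsgLib.MaxSub

variable {F : Type*} [Field F] {σ : F ≃+* F} {f : (Fin 3 → F) → (Fin 3 → F) → F}
  {M : Subgroup (GL (Fin 3) F)}

theorem Other.smul {x a : Fin 3 → F} (h : Other M x a) {s : F} (hs : s ≠ 0) : Other M (s • x) a :=
  let ⟨d, hd, hf⟩ := h; ⟨d, hd, hf.smul_centre hs⟩

/-- All but one point of an axis as centres with a second axis give a root group. -/
theorem rootIn_of_many [Finite F] (hq : 4 ≤ Nat.card F) {v w a : Fin 3 → F} (hi : Indep v w)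
    (hv : Flag M v a) (hw : Flag M w a) (hov : Other M v a) (how : Other M w a)
    (h : ∀ t : F, t ≠ -1 → Other M (v + t • w) a) : RootIn M v a := by
  rcases slopes hi hv hw hov how with hr | ⟨E, l, hE, hl, -, hsl⟩
  · exact hr
  exfalso
  have h1 := few_centres (E := E) hl ({-1}ᶜ : Set F) fun t ht => hsl t (h t (by simpa using ht))
  rw [Set.ncard_compl, Set.ncard_singleton] at h1
  have h2 := sq_card_subfield_le hE
  rcases Nat.lt_or_ge (Nat.card E) 3 with h3 | h3
  · omega
  · rw [pow_two] at h2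
    have := Nat.mul_le_mul_right (Nat.card E) h3
    omega

/-- A finite field with an automorphism of order two has at least four elements. -/
theorem four_le_card [Finite F] (hne : σ ≠ RingEquiv.refl F) : 4 ≤ Nat.card F := by
  let E : Subfield F := (σ : F →+* F).eqLocusField (RingHom.id F)
  have hE : E ≠ ⊤ := fun h => hne (RingEquiv.ext fun x => by
    have : x ∈ E := h ▸ Subfield.mem_top x
    exact this)
  have h2 := sq_card_subfield_le hE
  have : 1 < Nat.card E := Finite.one_lt_card
  nlinarith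

/-- The isotropic vectors span. -/
theorem exists_iso_not_orth' [Finite F] (hf : IsUnitaryForm σ f) {x : Fin 3 → F} (hx : x ≠ 0) :
    ∃ z, f z z = 0 ∧ f x z ≠ 0 := by
  by_contra hcon
  push Not at hcon
  have hs := sesqForm_of_unitary hf
  obtain ⟨z₀, -, hz00, hz0⟩ := exists_iso_mem hf ⊤ (by simp)
  obtain ⟨w₀, hw₀⟩ := hs.exists_left_ne_zero hz00
  have key : ∀ w, f w z₀ ≠ 0 → f x w = 0 := by
    intro w hw
    obtain ⟨t, h1, -⟩ := exists_iso_shift hf hz0 hw
    have := hcon _ h1
    rwa [hs.add_right, hs.smul_right, hcon z₀ hz0, mul_zero, add_zero] at this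
  obtain ⟨y, hy⟩ := (hs.nondegenerate x hx).2
  by_cases h : f y z₀ = 0
  · have := key (y + w₀) (by rwa [hs.add_left, h, zero_add])
    rw [hs.add_right, key w₀ hw₀, add_zero] at this
    exact hy this
  · exact hy (key y h)

/-- Every isotropic point is a centre with its polar as axis. -/
theorem flag_iso [Finite F] (hf : IsUnitaryForm σ f)
    (hM : similarityGroup f ⊓ specialLinear (Fin 3) F ≤ M) {z : Fin 3 → F} (hz : f z z = 0)
    (hz0 : z ≠ 0) : Flag M z (leftVec f z) := by
  obtain ⟨c, hc0, hc⟩ := exists_traceZero hf.ne_refl hf.involutive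
  exact ⟨by rw [(sesqForm_of_unitary hf).dot_leftVec, hz], hz0,
    (sesqForm_of_unitary hf).leftVec_ne_zero hz0, c, hc0, hM (unitTv_mem hf hz hc)⟩

theorem irreducible_of_unitary [Finite F] (hf : IsUnitaryForm σ f)
    (hM : similarityGroup f ⊓ specialLinear (Fin 3) F ≤ M) : Irreducible M := by
  have hs := sesqForm_of_unitary hf
  obtain ⟨c, hc0, hc⟩ := exists_traceZero hf.ne_refl hf.involutive
  intro X hX
  by_contra hcon
  push Not at hcon
  have hmove : ∀ x ∈ X, ∀ z, f z z = 0 → f x z ≠ 0 → z ∈ X := by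
    intro x hxX z hz hxz
    have h := hX _ (hM (unitTv_mem hf hz hc)) x hxX
    rw [tv_mulVec (by rw [dotProduct_smul, hs.dot_leftVec, hz, smul_zero]), hs.dot_leftVec,
      smul_smul] at h
    have h' := X.sub_mem h hxX
    rw [add_sub_cancel_left] at h'
    rwa [X.smul_mem_iff (mul_ne_zero hxz hc0)] at h'
  obtain ⟨x, hxX, hx0⟩ := Submodule.exists_mem_ne_zero_of_ne_bot hcon.1
  obtain ⟨z₀, hz0, hxz⟩ := exists_iso_not_orth' hf hx0
  have hz0X : z₀ ∈ X := hmove x hxX z₀ hz0 hxz
  have hmem : ∀ w, f w z₀ ≠ 0 → w ∈ X := by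
    intro w hw
    obtain ⟨t, h1, h2⟩ := exists_iso_shift hf hz0 hw
    have h3 := hmove z₀ hz0X _ h1 (unitary_ne_symm hf (h2.symm ▸ hw))
    simpa using X.sub_mem h3 (X.smul_mem t hz0X)
  have hz00 : z₀ ≠ 0 := fun h => hxz (h ▸ hs.zero_right x)
  obtain ⟨w₀, hw₀⟩ := hs.exists_left_ne_zero hz00
  refine hcon.2 (Submodule.eq_top_iff'.mpr fun w => ?_)
  by_cases hw : f w z₀ = 0
  · have h1 := hmem (w + w₀) (by rwa [hs.add_left, hw, zero_add])
    simpa using X.sub_mem h1 (hmem w₀ hw₀)
  · exact hmem w hw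

/-- An element respecting all isotropic transvections is a similarity. -/
theorem exists_bad_iso₃ [Finite F] (hf : IsUnitaryForm σ f) {g : GL (Fin 3) F}
    (hg : g ∉ similarityGroup f) :
    ∃ v, f v v = 0 ∧ ∀ μ : F, ∃ x, f ((g : Matrix (Fin 3) (Fin 3) F) *ᵥ x)
      ((g : Matrix (Fin 3) (Fin 3) F) *ᵥ v) ≠ μ * f x v := by
  by_contra hcon
  push Not at hcon
  choose μ hμ using hcon
  have hs := sesqForm_of_unitary hf
  obtain ⟨z₀, -, hz00, hz0⟩ := exists_iso_mem hf ⊤ (by simp)
  obtain ⟨w, hw⟩ := hs.exists_left_ne_zero hz00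
  obtain ⟨t, ht1, ht2⟩ := exists_iso_shift hf (w := (f w z₀)⁻¹ • w) hz0
    (by rw [hs.smul_left, inv_mul_cancel₀ hw]; exact one_ne_zero)
  set z₁ := (f w z₀)⁻¹ • w + t • z₀
  have h10 : f z₁ z₀ = 1 := by rw [ht2, hs.smul_left, inv_mul_cancel₀ hw]
  clear_value z₁
  have hother : ∀ z (hz : f z z = 0), f z z₀ ≠ 0 → μ z hz = σ (μ z₀ hz0) := by
    intro z hz hne
    have h1 := hμ z₀ hz0 z
    have h2 := hμ z hz z₀
    rw [hf.herm, h1, map_mul, ← hf.herm] at h2
    exact (mul_right_cancel₀ (unitary_ne_symm hf hne) h2).symm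
  obtain ⟨c, hc0, hc⟩ := exists_traceZero hf.ne_refl hf.involutive
  have hind : ∀ a : F, a • z₀ ≠ z₁ := fun a h => by
    rw [← h, hs.smul_left, hz0, mul_zero] at h10
    exact zero_ne_one h10
  have h2iso : f (c • z₀ + (1 : F) • z₁) (c • z₀ + (1 : F) • z₁) = 0 := by
    rw [one_smul, hs.add_left, hs.add_right, hs.add_right, hs.smul_left, hs.smul_left,
      hs.smul_right, hs.smul_right, hz0, ht1, h10, hc, hf.herm z₀ z₁, h10, map_one]
    ring
  obtain ⟨e1, e2⟩ := hs.multiplier_eq hind hz00 hc0 one_ne_zero (hμ z₀ hz0) (hμ z₁ ht1)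
    (hμ _ h2iso)
  have hfix : σ (μ z₀ hz0) = μ z₀ hz0 := by
    rw [← hother z₁ ht1 (by rw [h10]; exact one_ne_zero), ← e2, e1]
  refine hg (hs.mem_similarityGroup_of_similarOn g (μ z₀ hz0) ?_)
  set S := hs.similarOn (g : Matrix (Fin 3) (Fin 3) F) (μ z₀ hz0) with hS
  have h0S : z₀ ∈ S := hμ z₀ hz0
  have hmem : ∀ z, f z z₀ ≠ 0 → z ∈ S := by
    intro z hz
    obtain ⟨t, h1, h2⟩ := exists_iso_shift hf hz0 hz
    have h3 : z + t • z₀ ∈ S := by
      intro x
      rw [hμ _ h1 x, hother _ h1 (by rw [h2]; exact hz), hfix]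
    simpa using S.sub_mem h3 (S.smul_mem t h0S)
  refine Submodule.eq_top_iff'.mpr fun z => ?_
  by_cases hz : f z z₀ = 0
  · have h1 := hmem (z + z₁) (by rw [hs.add_left, hz, zero_add, h10]; exact one_ne_zero)
    simpa using S.sub_mem h1 (hmem z₁ (by rw [h10]; exact one_ne_zero))
  · exact hmem z hz

/-- The unitary shift: it fixes `P`, moves `u ∈ P^⊥` along `P` by any amount. -/
theorem exists_shift [Finite F] (hf : IsUnitaryForm σ f) {P u : Fin 3 → F} (hP : f P P = 0)
    (hPu : f P u = 0) (hn : f u u ≠ 0) (t : F) :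
    ∃ g ∈ similarityGroup f ⊓ specialLinear (Fin 3) F,
      (g : Matrix (Fin 3) (Fin 3) F) *ᵥ P = P ∧
      (g : Matrix (Fin 3) (Fin 3) F) *ᵥ u = u + t • P ∧
      (∀ x y, f ((g : Matrix (Fin 3) (Fin 3) F) *ᵥ x) ((g : Matrix (Fin 3) (Fin 3) F) *ᵥ y) = f x y) := by
  have hs := sesqForm_of_unitary hf
  have hfix := herm_self hf u
  set n := f u u with hn'
  set a := σ (-t / n) with ha
  have hat : σ a * n = -t := by rw [ha, hf.involutive, div_mul_cancel₀ _ hn]
  obtain ⟨b, hb⟩ := trace_surjective hf.ne_refl hf.involutive (a := n * (a * σ a))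
    (by rw [map_mul, map_mul, hfix, hf.involutive]; ring)
  have huP : f u P = 0 := unitary_orth_symm hf hPu
  set c : Fin 3 → F := (-σ a) • leftVec f u + b • leftVec f P with hc
  have hcd : ∀ x, c ⬝ᵥ x = -σ a * f x u + b * f x P := fun x => by
    simp [hc, add_dotProduct, smul_dotProduct, hs.dot_leftVec]
  have h1 : c ⬝ᵥ P = 0 := by rw [hcd, hPu, hP]; ring
  have h2 : (a • leftVec f P) ⬝ᵥ u = 0 := by
    rw [smul_dotProduct, hs.dot_leftVec, huP, smul_zero]
  have hmv : ∀ x, ((tv P c * tv u (a • leftVec f P) : GL (Fin 3) F) : Matrix (Fin 3) (Fin 3) F) *ᵥ x =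
      x + (a * f x P) • u + (-σ a * f x u + b * f x P - σ a * n * (a * f x P)) • P := by
    intro x
    rw [Units.val_mul, ← mulVec_mulVec, tv_mulVec h2, tv_mulVec h1, hcd, smul_dotProduct,
      hs.dot_leftVec, smul_eq_mul, hs.add_left, hs.add_left, hs.smul_left, hs.smul_left,
      ← hn', huP]
    congr 2
    ring
  have hiso : ∀ x y, f (((tv P c * tv u (a • leftVec f P) : GL (Fin 3) F) : Matrix (Fin 3) (Fin 3) F) *ᵥ x)
      (((tv P c * tv u (a • leftVec f P) : GL (Fin 3) F) : Matrix (Fin 3) (Fin 3) F) *ᵥ y) = f x y := by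
    intro x y
    rw [hmv, hmv]
    simp only [hs.add_left, hs.add_right, hs.smul_left, hs.smul_right, hPu, huP, hP, ← hn', map_add,
      map_sub, map_mul, map_neg, hf.involutive, hfix, ← hf.herm]
    linear_combination f x P * f P y * hb
  refine ⟨_, ⟨⟨1, fun x y => ?_⟩, Subgroup.mul_mem _ (tv_mem_specialLinear _ _)
    (tv_mem_specialLinear _ _)⟩, ?_, ?_, hiso⟩
  · rw [hiso, Units.val_one, one_mul]
  · rw [hmv, hP, hPu]; simp
  · rw [hmv, huP, ← hn', mul_zero, mul_zero, zero_smul, add_zero, mul_zero, sub_zero, add_zero,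
      neg_mul, hat, neg_neg]

/-- Isometries transport polars. -/
theorem leftVec_isometry (hs : SesqForm σ f) {g : GL (Fin 3) F}
    (hiso : ∀ x y, f ((g : Matrix (Fin 3) (Fin 3) F) *ᵥ x) ((g : Matrix (Fin 3) (Fin 3) F) *ᵥ y) = f x y)
    (u : Fin 3 → F) :
    leftVec f u ᵥ* ((g⁻¹ : GL (Fin 3) F) : Matrix (Fin 3) (Fin 3) F) =
      leftVec f ((g : Matrix (Fin 3) (Fin 3) F) *ᵥ u) := by
  refine dotProduct_eq _ _ fun x => ?_
  rw [hs.dot_leftVec_conj, hs.dot_leftVec, ← hiso, mulVec_mulVec, Units.mul_inv, one_mulVec]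

/-- An isotropic centre with an axis other than its polar gives `SL₃`. -/
theorem specialLinear_le_of_iso [Finite F] (hf : IsUnitaryForm σ f)
    (hM : similarityGroup f ⊓ specialLinear (Fin 3) F ≤ M) {P a : Fin 3 → F} (hP : f P P = 0)
    (hfl : Flag M P a) (hne : ∀ c : F, c • leftVec f P ≠ a) : specialLinear (Fin 3) F ≤ M := by
  have hs := sesqForm_of_unitary hf
  have hP0 := hfl.centre_ne
  obtain ⟨u, rfl⟩ := hs.leftVec_surjective a
  have hPu : f P u = 0 := by rw [← hs.dot_leftVec]; exact hfl.dot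
  have hi : Indep P u := (indep_or_smul hP0 u).resolve_right fun ⟨c, hc⟩ =>
    hne (σ c) (by rw [← hs.leftVec_smul, hc])
  have hil : Indep (leftVec f u) (leftVec f P) := indep_symm
    ((indep_or_smul (hs.leftVec_ne_zero hP0) _).resolve_right fun ⟨c, hc⟩ => hne c hc)
  have hn : f u u ≠ 0 := by
    intro hu
    have huP : f u P = 0 := unitary_orth_symm hf hPu
    obtain ⟨t, ht, htt⟩ := exists_noniso hf (Submodule.span F (Set.range ![P, u]))
      (by rw [finrank_span_eq_card hi.linearIndependent]; simp)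
    rw [Submodule.mem_span_range_iff_exists_fun] at ht
    obtain ⟨s, rfl⟩ := ht
    refine htt ?_
    simp [Fin.sum_univ_two, hs.add_left, hs.add_right, hs.smul_left, hs.smul_right, hP, hPu, huP, hu]
  -- every line through `P` other than the polar is an axis with a second centre
  have hoth : ∀ t : F, Flag M P (leftVec f u + t • leftVec f P) ∧
      Other (dual M) (leftVec f u + t • leftVec f P) P := by
    intro t
    obtain ⟨g, hg, hgP, hgu, hiso⟩ := exists_shift hf hP hPu hn (σ t)
    have h := hfl.conj (hM hg)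
    rw [leftVec_isometry hs hiso, hgP, hgu, hs.leftVec_add, hs.leftVec_smul, hf.involutive] at h
    refine ⟨h, ?_⟩
    set u' := u + σ t • P with hu'
    have ha' : leftVec f u + t • leftVec f P = leftVec f u' := by
      rw [hu', hs.leftVec_add, hs.leftVec_smul, hf.involutive]
    rw [ha'] at h ⊢
    obtain ⟨w, hwu, hwP⟩ := hs.exists_orth_not_orth (u := u') (v := P) fun c hc => by
      have := (hi (1 - c * σ t) (-c) (by
        rw [sub_smul, one_smul, neg_smul, mul_smul]
        calc P - c • σ t • P + -(c • u) = P - c • (u + σ t • P) := by rw [smul_add]; abel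
          _ = 0 := by rw [← hu', hc, sub_self])).2
      rw [neg_eq_zero.1 this, zero_smul] at hc
      exact hP0 hc.symm
    obtain ⟨s, h1, h2⟩ := exists_iso_shift hf hP (w := w) (by rw [hwP]; exact one_ne_zero)
    set R := w + s • P
    have hR0 : R ≠ 0 := fun e => one_ne_zero (α := F) (by rw [← hwP, ← h2, e, hs.zero_left])
    have hu'R : leftVec f u' ⬝ᵥ R = 0 := by
      rw [hs.dot_leftVec, hs.add_left, hs.smul_left, hwu, ← hs.dot_leftVec u' P, h.dot, mul_zero,
        add_zero]
    refine ⟨R, ?_, (h.spread (flag_iso hf hM h1 hR0) hu'R).toDual⟩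
    refine indep_of_dot (x := leftVec f P) ?_ ?_ hP0
    · rw [dotProduct_comm, hs.dot_leftVec, hP]
    · rw [dotProduct_comm, hs.dot_leftVec, h2, hwP]; exact one_ne_zero
  have h0 := hoth 0
  rw [zero_smul, add_zero] at h0
  have h1 := hoth 1
  rw [one_smul] at h1
  have hr := rootIn_of_many (M := dual M) (v := leftVec f u) (w := leftVec f u + leftVec f P) (a := P)
    (four_le_card hf.ne_refl) (fun s t e => by
      have := hil (s + t) t (by rw [← e]; module)
      exact ⟨by linear_combination this.1 - this.2, this.2⟩)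
    h0.1.toDual h1.1.toDual h0.2 h1.2 fun t ht => by
      have h1t : (1 + t : F) ≠ 0 := fun e => ht (eq_neg_of_add_eq_zero_right e)
      have := (hoth (t / (1 + t))).2.smul h1t
      rwa [smul_add, smul_smul, mul_div_cancel₀ _ h1t, add_smul, one_smul, add_assoc, ← smul_add]
        at this
  exact specialLinear_le_of_rootIn (irreducible_of_unitary hf hM) hP0 hfl.axis_ne (rootIn_of_dual hr)

/-- A tangent as axis of a non-isotropic centre gives `SL₃`. -/
theorem specialLinear_le_of_tangent [Finite F] (hf : IsUnitaryForm σ f)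
    (hM : similarityGroup f ⊓ specialLinear (Fin 3) F ≤ M) {P R : Fin 3 → F} (hP : f P P ≠ 0)
    (hR : f R R = 0) (hfl : Flag M P (leftVec f R)) : specialLinear (Fin 3) F ≤ M := by
  have hs := sesqForm_of_unitary hf
  obtain ⟨c, hc0, hc⟩ := exists_traceZero hf.ne_refl hf.involutive
  have hPR : f P R = 0 := by rw [← hs.dot_leftVec]; exact hfl.dot
  have hR0 : R ≠ 0 := fun e => hfl.axis_ne (by rw [e]; ext j; simp [leftVec, hs.zero_right])
  -- `P` has a second axis
  have hov : Other M P (leftVec f R) := by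
    obtain ⟨w, hwP, hwR⟩ := hs.exists_orth_not_orth (u := P) (v := R) fun d hd => by
      have : d * f P P = 0 := by rw [← hs.smul_left, hd]; exact unitary_orth_symm hf hPR
      rw [(mul_eq_zero.1 this).resolve_right hP, zero_smul] at hd
      exact hR0 hd.symm
    obtain ⟨s, h1, h2⟩ := exists_iso_shift hf hR (w := w) (by rw [hwR]; exact one_ne_zero)
    set R' := w + s • R
    have hPR' : f P R' = 0 := unitary_orth_symm hf (by
      rw [hs.add_left, hs.smul_left, hwP, unitary_orth_symm hf hPR, mul_zero, add_zero])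
    have h0 : leftVec f R' ⬝ᵥ (c • R') = 0 := by
      rw [dotProduct_smul, hs.dot_leftVec, h1, smul_zero]
    have h := hfl.conj (hM (unitTv_mem hf h1 hc))
    rw [tv_mulVec h0, hs.dot_leftVec, hPR', zero_smul, add_zero, tv_inv,
      vecMul_tv (by simpa using h0)] at h
    refine ⟨_, indep_of_dot (x := R) (by rw [hs.dot_leftVec, hR]) ?_ hfl.axis_ne, h⟩
    have hRR' : f R R' ≠ 0 := unitary_ne_symm hf (by rw [h2, hwR]; exact one_ne_zero)
    simp only [add_dotProduct, smul_dotProduct, hs.dot_leftVec, hR, zero_add, hs.neg_left,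
      hs.smul_left, h2, hwR, mul_one, smul_eq_mul]
    exact mul_ne_zero (neg_ne_zero.2 hc0) hRR'
  -- so has every point of the tangent other than `R`
  have hall : ∀ t : F, Flag M (P + t • R) (leftVec f R) ∧ Other M (P + t • R) (leftVec f R) := by
    intro t
    obtain ⟨g, hg, hgR, hgP, hiso⟩ := exists_shift hf hR (unitary_orth_symm hf hPR) hP t
    have h := hfl.conj (hM hg)
    rw [leftVec_isometry hs hiso, hgR, hgP] at h
    obtain ⟨d, hd, hdf⟩ := hov
    have h' := hdf.conj (hM hg)
    rw [hgP] at h'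
    refine ⟨h, _, ?_, h'⟩
    have e := congrArg (leftVec f) hgR
    rw [← leftVec_isometry hs hiso] at e
    intro s r hsr
    rw [← e] at hsr
    refine hd s r ?_
    have := congrArg (· ᵥ* (g : Matrix (Fin 3) (Fin 3) F)) hsr
    simpa [add_vecMul, smul_vecMul, vecMul_vecMul] using this
  have h1 := hall 1
  rw [one_smul] at h1
  have hi : Indep P (P + R) := fun s t e => by
    have e' := congrArg (f · P) e
    simp only [hs.add_left, hs.smul_left, hs.zero_left, unitary_orth_symm hf hPR, add_zero] at e'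
    have hst : s + t = 0 := by
      have : (s + t) * f P P = 0 := by linear_combination e'
      exact (mul_eq_zero.1 this).resolve_right hP
    have : t • R = 0 := by rw [← e, eq_neg_of_add_eq_zero_left hst]; module
    have ht := (smul_eq_zero.1 this).resolve_right hR0
    exact ⟨by linear_combination hst - ht, ht⟩
  exact specialLinear_le_of_rootIn (irreducible_of_unitary hf hM) hfl.centre_ne hfl.axis_ne
    (rootIn_of_many (four_le_card hf.ne_refl) hi hfl h1.1 hov h1.2 fun t ht => by
      have h1t : (1 + t : F) ≠ 0 := fun e => ht (eq_neg_of_add_eq_zero_right e)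
      have := (hall (t / (1 + t))).2.smul h1t
      rwa [smul_add, smul_smul, mul_div_cancel₀ _ h1t, add_smul, one_smul, add_assoc, ← smul_add]
        at this)

/-- **The unitary similarities are maximal in `SL₃`.** -/
theorem specialLinear_le_of_unitary₃ [Finite F] (hf : IsUnitaryForm σ f)
    (hM : similarityGroup f ⊓ specialLinear (Fin 3) F ≤ M) {g : GL (Fin 3) F} (hg : g ∈ M)
    (hg' : g ∉ similarityGroup f) : specialLinear (Fin 3) F ≤ M := by
  have hs := sesqForm_of_unitary hf
  obtain ⟨v, hvv, hv⟩ := exists_bad_iso₃ hf hg'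
  have hv0 : v ≠ 0 := by
    rintro rfl
    obtain ⟨x, hx⟩ := hv 1
    exact hx (by rw [mulVec_zero, hs.zero_right, hs.zero_right, mul_zero])
  have hfl := (flag_iso hf hM hvv hv0).conj hg
  set v' := (g : Matrix (Fin 3) (Fin 3) F) *ᵥ v with hv'
  set a := leftVec f v ᵥ* ((g⁻¹ : GL (Fin 3) F) : Matrix (Fin 3) (Fin 3) F) with ha
  have hne : ∀ c : F, c • leftVec f v' ≠ a := by
    intro c hc
    have hgx : ∀ x, c * f ((g : Matrix (Fin 3) (Fin 3) F) *ᵥ x) v' = f x v := by
      intro x
      rw [← hs.dot_leftVec v', ← smul_eq_mul, ← smul_dotProduct, hc, ha, hs.dot_leftVec_conj,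
        mulVec_mulVec, Units.inv_mul, one_mulVec]
    rcases eq_or_ne c 0 with rfl | hc0
    · exact hfl.axis_ne (by rw [← hc, zero_smul])
    · obtain ⟨x, hx⟩ := hv c⁻¹
      exact hx (by rw [← hgx x, ← mul_assoc, inv_mul_cancel₀ hc0, one_mul])
  clear_value v' a
  by_cases hiso : f v' v' = 0
  · exact specialLinear_le_of_iso hf hM hiso hfl hne
  -- an isotropic point on the axis
  obtain ⟨R, hR, hR0, hRR⟩ := exists_iso_mem hf (dotsKer ![a]) (by
    have := finrank_dotsKer ![a]
    simp only [Fintype.card_fin] at this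
    omega)
  rw [mem_dotsKer] at hR
  have haR : a ⬝ᵥ R = 0 := by simpa using hR 0
  have hR' := hfl.spread (flag_iso hf hM hRR hR0) haR
  by_cases hp : ∃ c : F, c • leftVec f R = a
  · obtain ⟨c, rfl⟩ := hp
    have hc0 : c ≠ 0 := fun e => hfl.axis_ne (by rw [e, zero_smul])
    have := hfl.smul_axis (inv_ne_zero hc0)
    rw [inv_smul_smul₀ hc0] at this
    exact specialLinear_le_of_tangent hf hM hiso hRR this
  · push Not at hp
    exact specialLinear_le_of_iso hf hM hRR hR' hp

theorem isMaximalIn_unitary₃ [Finite F] (hf : IsUnitaryForm σ f) :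
    IsMaximalIn (specialLinear (Fin 3) F) (similarityGroup f ⊓ specialLinear (Fin 3) F) := by
  refine isMaximalIn_of inf_le_right ?_ fun M hHM hMK g hg hg' =>
    specialLinear_le_of_unitary₃ hf hHM hg fun h => hg' ⟨h, hMK hg⟩
  obtain ⟨v, a, h⟩ := (sesqForm_of_unitary hf).exists_tv_not_similar (by simp)
  exact ⟨tv v a, tv_mem_specialLinear v a, fun h' => h h'.1⟩

end CfsgLib.SLThree
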