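import Cfsg.Agent.SLThree.Homology
import Cfsg.Agent.SLThree.Unitary
import Cfsg.Agent.MaxSub.QuadraticBasic

/-!
# The orthogonal similarities in dimension three are maximal in `SL₃`, `q` odd

The group contains the homology of every non-singular point with its polar. One more homology gives a
transvection. Its orbit under the orthogonal group then puts more slopes on one line, or in one pencil,
than a proper subfield holds.
-/

set_option autoImplicit false
set_option linter.unusedSectionVars false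

namespace CfsgLib.SLThree

open Matrix Cfsg.Geo CfsgLib.MaxSub

variable {F : Type*} [Field F] {M : Subgroup (GL (Fin 3) F)}

theorem indep_vecMul {a d : Fin 3 → F} (h : Indep a d) (g : GL (Fin 3) F) :
    Indep (a ᵥ* (g : Matrix (Fin 3) (Fin 3) F)) (d ᵥ* (g : Matrix (Fin 3) (Fin 3) F)) := by
  intro s t e
  refine h s t ?_
  have := congrArg (· ᵥ* ((g⁻¹ : GL (Fin 3) F) : Matrix (Fin 3) (Fin 3) F)) e
  simpa [add_vecMul, smul_vecMul, vecMul_vecMul] using this

theorem Other.conj {x a : Fin 3 → F} (h : Other M x a) {g : GL (Fin 3) F} (hg : g ∈ M) :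
    Other M ((g : Matrix (Fin 3) (Fin 3) F) *ᵥ x)
      (a ᵥ* ((g⁻¹ : GL (Fin 3) F) : Matrix (Fin 3) (Fin 3) F)) :=
  let ⟨_, hd, hf⟩ := h; ⟨_, indep_vecMul hd g⁻¹, hf.conj hg⟩

theorem Other.smul_axis {x a : Fin 3 → F} (h : Other M x a) {s : F} (hs : s ≠ 0) :
    Other M x (s • a) := by
  obtain ⟨d, hd, hf⟩ := h
  refine ⟨d, fun p q e => ?_, hf⟩
  rw [smul_smul] at e
  obtain ⟨h1, h2⟩ := hd _ _ e
  exact ⟨(mul_eq_zero.1 h1).resolve_right hs, h2⟩

theorem homMat_mulVec (e f x : Fin 3 → F) : homMat e f *ᵥ x = -x + (2 * (f ⬝ᵥ x)) • e := by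
  rw [homMat, add_mulVec, neg_mulVec, one_mulVec, smul_mulVec, vecMulVec_mulVec', smul_smul]

section

variable {Q : (Fin 3 → F) → F}

local notation "B" => QuadraticMap.polar Q

variable (hQ : IsNondegenerateQuadraticForm Q) (h2 : (2 : F) ≠ 0)

include hQ h2

/-- No line is totally singular. -/
theorem smul_of_singular {R y : Fin 3 → F} (hR0 : R ≠ 0) (hR : Q R = 0) (hyR : B y R = 0)
    (hy : Q y = 0) : ∃ c : F, c • R = y := by
  refine (indep_or_smul hR0 y).resolve_left fun hi => ?_
  have hs := sesqForm_of_quadratic hQ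
  obtain ⟨t, ht, htt⟩ := exists_nonsingular hQ (Submodule.span F (Set.range ![R, y]))
    (by rw [finrank_span_eq_card hi.linearIndependent]; simp)
  rw [Submodule.mem_span_range_iff_exists_fun] at ht
  obtain ⟨s, rfl⟩ := ht
  refine htt ?_
  rw [Fin.sum_univ_two]
  simp [quad_add (Q := Q), hQ.smul, hR, hy, hs.smul_left, hs.smul_right, polar_symm R y, hyR]

/-- The homology with centre `w` and its polar as axis. -/
theorem exists_refl (hM : quadSimilarityGroup Q ⊓ specialLinear (Fin 3) F ≤ M) {w : Fin 3 → F}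
    (hw : Q w ≠ 0) : Hom M w ((2 * Q w)⁻¹ • leftVec B w) ∧
      ∃ z ∈ M, (∀ x, (z : Matrix (Fin 3) (Fin 3) F) *ᵥ x = -x + (B x w / Q w) • w) ∧
        ∀ x y, B ((z : Matrix (Fin 3) (Fin 3) F) *ᵥ x) ((z : Matrix (Fin 3) (Fin 3) F) *ᵥ y) = B x y := by
  have hs := sesqForm_of_quadratic hQ
  set f := (2 * Q w)⁻¹ • leftVec B w with hf
  have h1 : f ⬝ᵥ w = 1 := by
    rw [hf, smul_dotProduct, leftVec_dot hQ, polar_self hQ, smul_eq_mul,
      inv_mul_cancel₀ (mul_ne_zero h2 hw)]
  let z : GL (Fin 3) F := ⟨homMat w f, homMat w f, homMat_sq h1, homMat_sq h1⟩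
  have hmv : ∀ x, (z : Matrix (Fin 3) (Fin 3) F) *ᵥ x = -x + (B x w / Q w) • w := by
    intro x
    show homMat w f *ᵥ x = _
    rw [homMat_mulVec, hf, smul_dotProduct, leftVec_dot hQ, smul_eq_mul]
    congr 2
    field_simp
  have hiso : ∀ x y, B ((z : Matrix (Fin 3) (Fin 3) F) *ᵥ x) ((z : Matrix (Fin 3) (Fin 3) F) *ᵥ y) = B x y := by
    intro x y
    rw [hmv, hmv]
    simp only [hs.add_left, hs.add_right, hs.neg_left, hs.neg_right, hs.smul_left, hs.smul_right,
      RingEquiv.refl_apply, polar_self hQ, polar_symm w y]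
    field_simp
    ring
  have hz : z ∈ M := by
    refine hM (Subgroup.mem_inf.2 ⟨⟨1, fun v => mul_left_cancel₀ h2 ?_⟩, ?_⟩)
    · rw [← polar_self hQ, hiso, polar_self hQ, Units.val_one, one_mul]
    · rw [specialLinear, MonoidHom.mem_ker]
      apply Units.ext
      rw [Matrix.GeneralLinearGroup.val_det_apply, Units.val_one]
      show (homMat w f).det = 1
      have e : homMat w f = -(1 + vecMulVec ((-2 : F) • w) f) := by
        rw [homMat, smul_vecMulVec, neg_add, neg_smul, neg_neg]
      have hd := det_one_add_replicateCol_mul_replicateRow (ι := Unit) ((-2 : F) • w) f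
      rw [dotProduct_smul, h1, smul_eq_mul, mul_one] at hd
      rw [e, det_neg, Fintype.card_fin]
      have e2 : (1 + vecMulVec ((-2 : F) • w) f).det = 1 + (-2 : F) := by
        rw [← hd]
        congr 1
        ext i j
        simp [vecMulVec, mul_apply]
      rw [e2]
      ring
  exact ⟨⟨h1, z, hz, rfl⟩, z, hz, hmv, hiso⟩

/-- A flag and its image under the homology at `w`. -/
theorem Flag.refl_image (hM : quadSimilarityGroup Q ⊓ specialLinear (Fin 3) F ≤ M) {v u w : Fin 3 → F}
    (h : Flag M v (leftVec B u)) (hw : Q w ≠ 0) :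
    Flag M (-v + (B v w / Q w) • w) (leftVec B (-u + (B u w / Q w) • w)) := by
  obtain ⟨-, z, hz, hmv, hiso⟩ := exists_refl hQ h2 hM hw
  have := h.conj hz
  rwa [leftVec_isometry (sesqForm_of_quadratic hQ) hiso, hmv, hmv] at this

theorem Other.refl_image (hM : quadSimilarityGroup Q ⊓ specialLinear (Fin 3) F ≤ M) {v u w : Fin 3 → F}
    (h : Other M v (leftVec B u)) (hw : Q w ≠ 0) :
    Other M (-v + (B v w / Q w) • w) (leftVec B (-u + (B u w / Q w) • w)) := by
  obtain ⟨-, z, hz, hmv, hiso⟩ := exists_refl hQ h2 hM hw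
  have := h.conj hz
  rwa [leftVec_isometry (sesqForm_of_quadratic hQ) hiso, hmv, hmv] at this

/-- A vector orthogonal to `v`, not proportional to it. -/
theorem exists_orth_not_mem {v : Fin 3 → F} (hv : v ≠ 0) :
    ∃ y, B y v = 0 ∧ ∀ c : F, c • v ≠ y := by
  by_contra hcon
  push Not at hcon
  have h1 : dotsKer ![leftVec B v] ≤ Submodule.span F {v} := fun y hy => by
    have := (mem_dotsKer.mp hy) 0
    exact Submodule.mem_span_singleton.2 (hcon y (by simpa [leftVec_dot hQ] using this))
  have h3 := Submodule.finrank_mono h1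
  have h4 := finrank_dotsKer ![leftVec B v]
  rw [finrank_span_singleton hv] at h3
  simp only [Fintype.card_fin] at h4
  omega

theorem orth_linearIndependent {x₀ e₂ e₃ : Fin 3 → F} (hx₀ : Q x₀ ≠ 0) (hn2 : Q e₂ ≠ 0)
    (he30 : e₃ ≠ 0) (b2 : B x₀ e₂ = 0) (b3 : B x₀ e₃ = 0) (b23 : B e₂ e₃ = 0) :
    LinearIndependent F ![x₀, e₂, e₃] := by
  have hs := sesqForm_of_quadratic hQ
  rw [Fintype.linearIndependent_iff]
  intro c hc i
  simp only [Fin.sum_univ_three, Matrix.cons_val_zero, Matrix.cons_val_one, Matrix.cons_val] at hc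
  have e1 := congrArg (fun y => B y x₀) hc
  have e2 := congrArg (fun y => B y e₂) hc
  simp only [hs.add_left, hs.smul_left, hs.zero_left, polar_self hQ, b2, polar_symm e₃ x₀, b3,
    polar_symm e₂ x₀, polar_symm e₃ e₂, b23, mul_zero, add_zero, zero_add] at e1 e2
  have c0 := (mul_eq_zero.1 e1).resolve_right (mul_ne_zero h2 hx₀)
  have c1 := (mul_eq_zero.1 e2).resolve_right (mul_ne_zero h2 hn2)
  rw [c0, c1, zero_smul, zero_smul, zero_add, zero_add] at hc
  have c2 := (smul_eq_zero.1 hc).resolve_right he30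
  fin_cases i
  · exact c0
  · exact c1
  · exact c2

/-- A subspace with a non-singular vector, closed under orthogonal non-singular sums, is everything. -/
theorem top_of_rule (S : Submodule F (Fin 3 → F)) {x₀ : Fin 3 → F} (h0 : x₀ ∈ S) (hx₀ : Q x₀ ≠ 0)
    (rule : ∀ x y, x ∈ S → Q x ≠ 0 → Q y ≠ 0 → Q (x + y) ≠ 0 → B x y = 0 → y ∈ S) : S = ⊤ := by
  have hs := sesqForm_of_quadratic hQ
  have step : ∀ e₂ e₃ : Fin 3 → F, Q e₂ ≠ 0 → Q e₃ ≠ 0 → B x₀ e₂ = 0 → B x₀ e₃ = 0 → B e₂ e₃ = 0 →
      Q x₀ + Q e₂ ≠ 0 → S = ⊤ := by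
    intro e₂ e₃ h2' h3' b2 b3 b23 hne
    have hm2 : e₂ ∈ S := rule _ _ h0 hx₀ h2' (by rwa [quad_add (Q := Q), b2, add_zero]) b2
    have hu : Q (x₀ + e₂) = Q x₀ + Q e₂ := by rw [quad_add (Q := Q), b2, add_zero]
    have hm3 : e₃ ∈ S := by
      by_cases h : Q x₀ + Q e₃ = 0
      · refine rule _ _ (S.add_mem h0 hm2) (by rwa [hu]) h3' ?_ (by rw [hs.add_left, b3, b23, add_zero])
        rw [quad_add (Q := Q) (x₀ + e₂), hu, hs.add_left, b3, b23]
        intro e
        exact h2' (by linear_combination e - h)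
      · exact rule _ _ h0 hx₀ h3' (by rwa [quad_add (Q := Q), b3, add_zero]) b3
    have hli := orth_linearIndependent hQ h2 hx₀ h2' (fun e => h3' (by rw [e, quad_zero hQ])) b2 b3 b23
    refine eq_top_iff.2 ?_
    rw [← hli.span_eq_top_of_card_eq_finrank (by simp)]
    refine Submodule.span_le.2 ?_
    rintro _ ⟨i, rfl⟩
    fin_cases i
    · exact h0
    · exact hm2
    · exact hm3
  obtain ⟨e₂, he2, hn2⟩ := exists_nonsingular hQ (dotsKer ![leftVec B x₀]) (by
    have := finrank_dotsKer ![leftVec B x₀]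
    simp only [Fintype.card_fin] at this ⊢
    omega)
  rw [mem_dotsKer] at he2
  have b2 : B x₀ e₂ = 0 := by
    rw [polar_symm, ← leftVec_dot hQ]; simpa using he2 0
  obtain ⟨e₃, he3, he30⟩ := Submodule.exists_mem_ne_zero_of_ne_bot
    (p := dotsKer ![leftVec B x₀, leftVec B e₂]) (fun h => by
      have := finrank_dotsKer ![leftVec B x₀, leftVec B e₂]
      rw [h, finrank_bot, Fintype.card_fin] at this
      omega)
  rw [mem_dotsKer] at he3
  have b3 : B x₀ e₃ = 0 := by rw [polar_symm, ← leftVec_dot hQ]; simpa using he3 0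
  have b23 : B e₂ e₃ = 0 := by rw [polar_symm, ← leftVec_dot hQ]; simpa using he3 1
  have hn3 : Q e₃ ≠ 0 := by
    intro h
    obtain ⟨x, hx⟩ := hs.exists_left_ne_zero he30
    have hli := orth_linearIndependent hQ h2 hx₀ hn2 he30 b2 b3 b23
    have hle : Submodule.span F (Set.range ![x₀, e₂, e₃]) ≤ dotsKer ![leftVec B e₃] := by
      refine Submodule.span_le.2 ?_
      rintro _ ⟨i, rfl⟩
      rw [SetLike.mem_coe, mem_dotsKer]
      intro j
      fin_cases j
      fin_cases i <;> simp [leftVec_dot hQ, b3, b23, polar_self hQ, h]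
    rw [hli.span_eq_top_of_card_eq_finrank (by simp)] at hle
    have := mem_dotsKer.1 (hle (Submodule.mem_top (x := x))) 0
    exact hx (by simpa [leftVec_dot hQ] using this)
  by_cases c2 : Q x₀ + Q e₂ = 0
  · by_cases c3 : Q x₀ + Q e₃ = 0
    · have h23 : Q e₂ = Q e₃ := by linear_combination c2 - c3
      have q1 : Q (e₂ + e₃) = 2 * Q e₂ := by rw [quad_add (Q := Q), b23, h23]; ring
      refine step (e₂ + e₃) (e₂ - e₃) (by rw [q1]; exact mul_ne_zero h2 hn2) ?_
        (by rw [hs.add_right, b2, b3, add_zero]) (by rw [hs.sub_right, b2, b3, sub_zero]) ?_ ?_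
      · rw [sub_eq_add_neg, quad_add (Q := Q), hs.neg_right, b23, ← neg_one_smul F e₃, hQ.smul, h23]
        intro e
        exact mul_ne_zero h2 hn3 (by linear_combination e)
      · rw [hs.add_left, hs.sub_right, hs.sub_right, polar_self hQ, polar_self hQ, b23,
          polar_symm e₃ e₂, b23, h23]
        ring
      · rw [q1]
        intro e
        exact hn2 (by linear_combination e - c2)
    · exact step e₃ e₂ hn3 hn2 b3 b2 (by rw [polar_symm, b23]) c3
  · exact step e₂ e₃ hn2 hn3 b2 b3 b23 c2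

theorem irreducible_of_orth (hM : quadSimilarityGroup Q ⊓ specialLinear (Fin 3) F ≤ M) :
    Irreducible M := by
  have hs := sesqForm_of_quadratic hQ
  intro X hX
  by_contra hcon
  push Not at hcon
  have hmove : ∀ x ∈ X, ∀ w, Q w ≠ 0 → B x w ≠ 0 → w ∈ X := by
    intro x hxX w hw hxw
    obtain ⟨-, z, hz, hmv, -⟩ := exists_refl hQ h2 hM hw
    have h := X.add_mem (hX z hz x hxX) hxX
    rwa [hmv, add_comm (-x), add_assoc, neg_add_cancel, add_zero,
      X.smul_mem_iff (div_ne_zero hxw hw)] at h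
  obtain ⟨x, hxX, hx0⟩ := Submodule.exists_mem_ne_zero_of_ne_bot hcon.1
  obtain ⟨w, hw, hxw⟩ : ∃ w, Q w ≠ 0 ∧ B x w ≠ 0 := by
    by_cases hx : Q x = 0
    · obtain ⟨y, hy⟩ := (hs.nondegenerate x hx0).2
      by_cases hy0 : Q y = 0
      · refine ⟨x + y, by rwa [quad_add (Q := Q), hx, hy0, zero_add, zero_add], ?_⟩
        rwa [hs.add_right, polar_self hQ, hx, mul_zero, zero_add]
      · exact ⟨y, hy0, hy⟩
    · exact ⟨x, hx, by rw [polar_self hQ]; exact mul_ne_zero h2 hx⟩
  refine hcon.2 (top_of_rule hQ h2 X (hmove x hxX w hw hxw) hw fun a b ha hQa hQb hab hab0 => ?_)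
  have := hmove a ha (a + b) hab (by rw [hs.add_right, hab0, add_zero, polar_self hQ]; exact mul_ne_zero h2 hQa)
  simpa using X.sub_mem this ha

/-- An element respecting all homologies with polar axes is a similarity. -/
theorem exists_bad_hom (hM : quadSimilarityGroup Q ⊓ specialLinear (Fin 3) F ≤ M) {g : GL (Fin 3) F}
    (hg : g ∈ M) (hg' : g ∉ quadSimilarityGroup Q) :
    ∃ e f, Hom M e f ∧ ∀ c : F, c • leftVec B e ≠ f := by
  have hs := sesqForm_of_quadratic hQ
  by_contra hcon
  push Not at hcon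
  -- the multipliers
  have hmu : ∀ w, Q w ≠ 0 → ∃ μ : F, ∀ x, B ((g : Matrix (Fin 3) (Fin 3) F) *ᵥ x)
      ((g : Matrix (Fin 3) (Fin 3) F) *ᵥ w) = μ * B x w := by
    intro w hw
    obtain ⟨c, hc⟩ := hcon _ _ ((exists_refl hQ h2 hM hw).1.conj hg)
    have hc0 : c ≠ 0 := fun e => ((exists_refl hQ h2 hM hw).1.conj hg).ne_right (by rw [← hc, e, zero_smul])
    refine ⟨c⁻¹ * (2 * Q w)⁻¹, fun x => ?_⟩
    have := congrArg (· ⬝ᵥ ((g : Matrix (Fin 3) (Fin 3) F) *ᵥ x)) hc
    simp only [smul_dotProduct, leftVec_dot hQ, dot_conj, smul_eq_mul] at this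
    rw [mul_assoc, ← this, inv_mul_cancel_left₀ hc0]
  choose μ hμ using hmu
  obtain ⟨w₀, -, hw₀⟩ := exists_nonsingular hQ ⊤ (by simp)
  set S := hs.similarOn (g : Matrix (Fin 3) (Fin 3) F) (μ w₀ hw₀)
  have htop : S = ⊤ := top_of_rule hQ h2 S (hμ w₀ hw₀) hw₀ fun x y hx hQx hQy hxy hxy0 => by
    have hx' : ∀ z, B ((g : Matrix (Fin 3) (Fin 3) F) *ᵥ z) ((g : Matrix (Fin 3) (Fin 3) F) *ᵥ x) =
        μ w₀ hw₀ * B z x := hx
    have := hs.multiplier_eq (a := 1) (b := 1) (fun c hc => by
        rw [← hc, hs.smul_right, polar_self hQ, RingEquiv.refl_apply] at hxy0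
        rcases mul_eq_zero.1 hxy0 with h | h
        · exact hQy (by rw [← hc, h, zero_smul, quad_zero hQ])
        · exact mul_ne_zero h2 hQx h)
      (fun e => hQx (by rw [e, quad_zero hQ])) one_ne_zero one_ne_zero hx' (hμ y hQy)
      (by simpa using hμ (x + y) hxy)
    intro z
    rw [hμ y hQy z, ← this.2, this.1]
  obtain ⟨c, hc⟩ := hs.mem_similarityGroup_of_similarOn g _ htop
  refine hg' ⟨c, fun v => mul_left_cancel₀ h2 ?_⟩
  rw [← polar_self hQ, hc, polar_self hQ]
  ring

/-- A tangent as axis of a non-singular centre. -/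
theorem rootIn_of_tangent [Finite F] (hq : 4 ≤ Nat.card F)
    (hM : quadSimilarityGroup Q ⊓ specialLinear (Fin 3) F ≤ M) {v R : Fin 3 → F} (hv : Q v ≠ 0)
    (hR : Q R = 0) (hR0 : R ≠ 0) (hfl : Flag M v (leftVec B R)) : RootIn M v (leftVec B R) := by
  have hs := sesqForm_of_quadratic hQ
  have hvR : B v R = 0 := by rw [← leftVec_dot hQ]; exact hfl.dot
  -- a second axis
  have hov : Other M v (leftVec B R) := by
    obtain ⟨w, hwv, hwR⟩ := hs.exists_orth_not_orth (u := v) (v := R) fun c hc => by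
      rcases eq_or_ne c 0 with rfl | hc0
      · exact hR0 (by rw [← hc, zero_smul])
      · rw [← hc, hQ.smul] at hR
        exact mul_ne_zero (pow_ne_zero 2 hc0) hv hR
    set w' := w + (1 - Q w) • R
    have hq' : Q w' = 1 := by
      rw [quad_add (Q := Q), hQ.smul, hR, hs.smul_right, hwR, RingEquiv.refl_apply]; ring
    have h := hfl.refl_image hQ h2 hM (w := w') (by rw [hq']; exact one_ne_zero)
    have e1 : B v w' = 0 := by
      rw [hs.add_right, hs.smul_right, hvR, polar_symm v w, hwv, mul_zero, add_zero]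
    have e2 : B R w' = 1 := by
      rw [hs.add_right, hs.smul_right, polar_self hQ, hR, polar_symm R w, hwR]; simp
    rw [e1, zero_div, zero_smul, add_zero, e2, hq', div_one, one_smul] at h
    refine ⟨_, indep_of_dot (x := R) (by rw [leftVec_dot hQ, polar_self hQ, hR, mul_zero]) ?_
      hfl.axis_ne, by simpa using h.smul_centre (s := (-1 : F)) (neg_ne_zero.2 one_ne_zero)⟩
    rw [leftVec_dot hQ, hs.add_right, hs.neg_right, polar_self hQ, hR, e2]
    simp
  have hall : ∀ t : F, Flag M (v + t • R) (leftVec B R) ∧ Other M (v + t • R) (leftVec B R) := by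
    intro t
    set w := v + (t / 2) • R
    have hw : Q w = Q v := by rw [quad_add (Q := Q), hQ.smul, hR, hs.smul_right, hvR]; ring
    have e1 : B v w = 2 * Q v := by rw [hs.add_right, hs.smul_right, hvR, polar_self hQ]; ring
    have e2 : B R w = 0 := by
      rw [hs.add_right, hs.smul_right, polar_self hQ, hR, polar_symm R v, hvR]; ring
    have hf' := hfl.refl_image hQ h2 hM (w := w) (by rw [hw]; exact hv)
    have ho' := hov.refl_image hQ h2 hM (w := w) (by rw [hw]; exact hv)
    have e3 : -v + (2 * Q v / Q v) • w = v + t • R := by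
      rw [mul_div_assoc, div_self hv, mul_one, smul_add, smul_smul, mul_div_cancel₀ _ h2, two_smul]
      abel
    rw [e1, e2, hw, e3, zero_div, zero_smul, add_zero, ← neg_one_smul F R, hs.leftVec_smul] at hf' ho'
    have h1 : (RingEquiv.refl F) (-1 : F) ≠ 0 := neg_ne_zero.2 one_ne_zero
    have hf'' := hf'.smul_axis (inv_ne_zero h1)
    have ho'' := ho'.smul_axis (inv_ne_zero h1)
    rw [smul_smul, inv_mul_cancel₀ h1, one_smul] at hf'' ho''
    exact ⟨hf'', ho''⟩
  have h1 := hall 1
  rw [one_smul] at h1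
  have hi : Indep v (v + R) := fun s t e => by
    have e' := congrArg (fun y => B y v) e
    simp only [hs.add_left, hs.smul_left, hs.zero_left, polar_self hQ, polar_symm R v, hvR, add_zero] at e'
    have hst : s + t = 0 := by
      have : (s + t) * (2 * Q v) = 0 := by linear_combination e'
      exact (mul_eq_zero.1 this).resolve_right (mul_ne_zero h2 hv)
    have : t • R = 0 := by rw [← e, eq_neg_of_add_eq_zero_left hst]; module
    have ht := (smul_eq_zero.1 this).resolve_right hR0
    exact ⟨by linear_combination hst - ht, ht⟩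
  exact rootIn_of_many hq hi hfl h1.1 hov h1.2 fun t ht => by
    have h1t : (1 + t : F) ≠ 0 := fun e => ht (eq_neg_of_add_eq_zero_right e)
    have := (hall (t / (1 + t))).2.smul h1t
    rwa [smul_add, smul_smul, mul_div_cancel₀ _ h1t, add_smul, one_smul, add_assoc, ← smul_add]
      at this

/-- A singular centre with a secant as axis. -/
theorem rootIn_of_singular [Finite F] (hq : 4 ≤ Nat.card F)
    (hM : quadSimilarityGroup Q ⊓ specialLinear (Fin 3) F ≤ M) {R w : Fin 3 → F} (hR : Q R = 0)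
    (hw : Q w ≠ 0) (hfl : Flag M R (leftVec B w)) : RootIn M R (leftVec B w) := by
  have hs := sesqForm_of_quadratic hQ
  have hR0 := hfl.centre_ne
  have hRw : B R w = 0 := by rw [← leftVec_dot hQ]; exact hfl.dot
  have hwR : B w R = 0 := by rw [polar_symm, hRw]
  have hoth : ∀ t : F, Flag M R (leftVec B w + t • leftVec B R) ∧
      Other (dual M) (leftVec B w + t • leftVec B R) R := by
    intro t
    set w' := w + (t / 2) • R
    have hw' : Q w' = Q w := by rw [quad_add (Q := Q), hQ.smul, hR, hs.smul_right, hwR]; ring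
    have e1 : B R w' = 0 := by
      rw [hs.add_right, hs.smul_right, polar_self hQ, hR, hRw]; ring
    have e2 : B w w' = 2 * Q w := by rw [hs.add_right, hs.smul_right, hwR, polar_self hQ]; ring
    have h := hfl.refl_image hQ h2 hM (w := w') (by rw [hw']; exact hw)
    have e3 : -w + (2 * Q w / Q w) • w' = w + t • R := by
      rw [mul_div_assoc, div_self hw, mul_one, smul_add, smul_smul, mul_div_cancel₀ _ h2, two_smul]
      abel
    rw [e1, e2, hw', e3, zero_div, zero_smul, add_zero] at h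
    have h := h.smul_centre (s := (-1 : F)) (neg_ne_zero.2 one_ne_zero)
    rw [neg_smul, one_smul, neg_neg] at h
    have ha : leftVec B (w + t • R) = leftVec B w + t • leftVec B R := by
      rw [hs.leftVec_add, hs.leftVec_smul, RingEquiv.refl_apply]
    refine ⟨ha ▸ h, ?_⟩
    set u := w + t • R with hu
    have hu' : Q u = Q w := by rw [quad_add (Q := Q), hQ.smul, hR, hs.smul_right, hwR]; ring
    have hRu : B R u = 0 := by
      rw [hs.add_right, hs.smul_right, polar_self hQ, hR, hRw]; ring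
    obtain ⟨y, hyu, hyR⟩ := hs.exists_orth_not_orth (u := u) (v := R) fun c hc => by
      rcases eq_or_ne c 0 with rfl | hc0
      · exact hR0 (by rw [← hc, zero_smul])
      · rw [← hc, hQ.smul, hu'] at hR
        exact mul_ne_zero (pow_ne_zero 2 hc0) hw hR
    set x := y + (1 - Q y) • R
    have hx : Q x = 1 := by
      rw [quad_add (Q := Q), hQ.smul, hR, hs.smul_right, hyR, RingEquiv.refl_apply]; ring
    have e4 : B u x = 0 := by
      rw [hs.add_right, hs.smul_right, polar_symm u y, hyu, polar_symm u R, hRu, mul_zero, add_zero]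
    have e5 : B R x = 1 := by
      rw [hs.add_right, hs.smul_right, polar_self hQ, hR, polar_symm R y, hyR]; simp
    have h' := h.refl_image hQ h2 hM (w := x) (by rw [hx]; exact one_ne_zero)
    rw [e4, e5, hx, div_one, one_smul, zero_div, zero_smul, add_zero, ← neg_one_smul F u,
      hs.leftVec_smul] at h'
    have h1 : (RingEquiv.refl F) (-1 : F) ≠ 0 := neg_ne_zero.2 one_ne_zero
    have h'' := h'.smul_axis (inv_ne_zero h1)
    rw [smul_smul, inv_mul_cancel₀ h1, one_smul] at h''
    rw [← ha]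
    refine ⟨-R + x, ?_, h''.toDual⟩
    refine indep_of_dot (x := leftVec B R) ?_ ?_ hR0
    · rw [dotProduct_comm, leftVec_dot hQ, polar_self hQ, hR, mul_zero]
    · rw [dotProduct_comm, leftVec_dot hQ, hs.add_left, hs.neg_left, polar_self hQ, hR,
        polar_symm x R, e5]
      simp
  have h0 := hoth 0
  rw [zero_smul, add_zero] at h0
  have h1 := hoth 1
  rw [one_smul] at h1
  have hil : Indep (leftVec B w) (leftVec B R) := indep_symm (indep_of_dot (x := w)
    (by rw [leftVec_dot hQ, hwR]) (by rw [leftVec_dot hQ, polar_self hQ]; exact mul_ne_zero h2 hw)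
    (hs.leftVec_ne_zero hR0))
  exact rootIn_of_dual (rootIn_of_many (M := dual M) hq (fun s t e => by
      have := hil (s + t) t (by rw [← e]; module)
      exact ⟨by linear_combination this.1 - this.2, this.2⟩)
    h0.1.toDual h1.1.toDual h0.2 h1.2 fun t ht => by
      have h1t : (1 + t : F) ≠ 0 := fun e => ht (eq_neg_of_add_eq_zero_right e)
      have := (hoth (t / (1 + t))).2.smul h1t
      rwa [smul_add, smul_smul, mul_div_cancel₀ _ h1t, add_smul, one_smul, add_assoc, ← smul_add]
        at this)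

/-- A non-singular centre with no singular point orthogonal to it. -/
theorem rootIn_of_anisotropic [Finite F] (hq : 9 ≤ Nat.card F)
    (hM : quadSimilarityGroup Q ⊓ specialLinear (Fin 3) F ≤ M) {v u : Fin 3 → F} (hv : Q v ≠ 0)
    (han : ∀ R, R ≠ 0 → B R v = 0 → Q R ≠ 0) (hfl : Flag M v (leftVec B u)) :
    RootIn M v (leftVec B u) := by
  classical
  have hs := sesqForm_of_quadratic hQ
  have hvu : B v u = 0 := by rw [← leftVec_dot hQ]; exact hfl.dot
  have hu0 : u ≠ 0 := fun e => hfl.axis_ne (by rw [e]; ext j; simp [leftVec, hs.zero_right])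
  have huv : B u v = 0 := by rw [polar_symm, hvu]
  have hu : Q u ≠ 0 := han u hu0 huv
  obtain ⟨x, hx, hx0⟩ := Submodule.exists_mem_ne_zero_of_ne_bot
    (p := dotsKer ![leftVec B v, leftVec B u]) (fun h => by
      have := finrank_dotsKer ![leftVec B v, leftVec B u]
      rw [h, finrank_bot, Fintype.card_fin] at this
      omega)
  rw [mem_dotsKer] at hx
  have hxv : B x v = 0 := by rw [← leftVec_dot hQ]; simpa using hx 0
  have hxu : B x u = 0 := by rw [← leftVec_dot hQ]; simpa using hx 1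
  have hvx : B v x = 0 := by rw [polar_symm, hxv]
  have hux : B u x = 0 := by rw [polar_symm, hxu]
  have hxn : Q x ≠ 0 := han x hx0 hxv
  -- the first axis has a second centre
  have hov : Other (dual M) (leftVec B u) v := by
    obtain ⟨s, hs0, hsv⟩ : ∃ s : F, s ≠ 0 ∧ Q v + s ^ 2 * Q x ≠ 0 := by
      by_contra hcon
      push Not at hcon
      have h1 := hcon 1 one_ne_zero
      have h2' := hcon 2 h2
      have h3 : (3 : F) = 0 := by
        have : (3 : F) * Q x = 0 := by linear_combination h2' - h1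
        exact (mul_eq_zero.1 this).resolve_right hxn
      letI := Fintype.ofFinite F
      obtain ⟨s, -, hs1, hs2, hs3⟩ : ∃ s ∈ (Finset.univ : Finset F), s ≠ 0 ∧ s ≠ 1 ∧ s ≠ -1 := by
        by_contra hcon'
        push Not at hcon'
        have : (Finset.univ : Finset F) ⊆ {0, 1, -1} := fun s hs => by
          have := hcon' s hs
          simp only [Finset.mem_insert, Finset.mem_singleton]
          tauto
        have := Finset.card_le_card this
        have hle := Finset.card_le_three (a := (0 : F)) (b := 1) (c := -1)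
        rw [Finset.card_univ, ← Nat.card_eq_fintype_card] at this
        omega
      have h4 := hcon s hs1
      have : (s - 1) * (s + 1) * Q x = 0 := by linear_combination h4 - h1
      simp only [mul_eq_zero, hxn, or_false, sub_eq_zero, hs2, false_or] at this
      exact hs3 (eq_neg_of_add_eq_zero_left this)
    set w := v + s • x
    have hw : Q w = Q v + s ^ 2 * Q x := by
      rw [quad_add (Q := Q), hQ.smul, hs.smul_right, hvx, mul_zero, add_zero]
    have e1 : B u w = 0 := by rw [hs.add_right, hs.smul_right, huv, hux, mul_zero, add_zero]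
    have e2 : B v w = 2 * Q v := by rw [hs.add_right, hs.smul_right, polar_self hQ, hvx]; ring
    have h := hfl.refl_image hQ h2 hM (w := w) (by rw [hw]; exact hsv)
    rw [e1, e2, zero_div, zero_smul, add_zero, ← neg_one_smul F u, hs.leftVec_smul] at h
    have h1 : (RingEquiv.refl F) (-1 : F) ≠ 0 := neg_ne_zero.2 one_ne_zero
    have h' := h.smul_axis (inv_ne_zero h1)
    rw [smul_smul, inv_mul_cancel₀ h1, one_smul] at h'
    refine ⟨_, indep_of_dot (x := leftVec B x) ?_ ?_ hfl.centre_ne, h'.toDual⟩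
    · rw [dotProduct_comm, leftVec_dot hQ, hvx]
    · rw [dotProduct_comm, leftVec_dot hQ, hs.add_left, hs.neg_left, hs.smul_left, hvx, hs.add_left,
        hs.smul_left, hvx, polar_self hQ, neg_zero, zero_add, zero_add]
      exact mul_ne_zero (div_ne_zero (mul_ne_zero h2 hv) (by rw [hw]; exact hsv))
        (mul_ne_zero hs0 (mul_ne_zero h2 hxn))
  -- its images
  have himg : ∀ b : F, Flag M v (leftVec B ((Q u - b ^ 2 * Q x) • u + (2 * b * Q u) • x)) ∧
      Other (dual M) (leftVec B ((Q u - b ^ 2 * Q x) • u + (2 * b * Q u) • x)) v := by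
    intro b
    set w := u + b • x
    have hw : Q w = Q u + b ^ 2 * Q x := by
      rw [quad_add (Q := Q), hQ.smul, hs.smul_right, hux, mul_zero, add_zero]
    have hwn : Q w ≠ 0 := by
      refine han w (fun e => hu ?_) (by rw [hs.add_left, hs.smul_left, huv, hxv, mul_zero, add_zero])
      have h' := congrArg (fun y => B y u) e
      simp only [w, hs.add_left, hs.smul_left, hxu, polar_self hQ, hs.zero_left, mul_zero, add_zero] at h'
      exact (mul_eq_zero.1 h').resolve_left h2
    have e1 : B v w = 0 := by rw [hs.add_right, hs.smul_right, hvu, hvx, mul_zero, add_zero]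
    have e2 : B u w = 2 * Q u := by rw [hs.add_right, hs.smul_right, hux, polar_self hQ]; ring
    have e3 : (Q u - b ^ 2 * Q x) • u + (2 * b * Q u) • x = Q w • (-u + (2 * Q u / Q w) • w) := by
      rw [smul_add, smul_smul, mul_div_cancel₀ _ hwn, smul_neg, smul_add, smul_smul, hw]
      module
    obtain ⟨-, z, hz, hmv, hiso⟩ := exists_refl hQ h2 hM hwn
    have hf := hfl.conj hz
    rw [leftVec_isometry hs hiso, hmv, hmv, e1, e2, zero_div, zero_smul, add_zero] at hf
    have hzv : (z : Matrix (Fin 3) (Fin 3) F) *ᵥ v = -v := by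
      rw [hmv, e1, zero_div, zero_smul, add_zero]
    have hne : (RingEquiv.refl F) (Q w) ≠ 0 := hwn
    rw [e3, hs.leftVec_smul]
    refine ⟨by simpa using (hf.smul_axis hne).smul_centre (s := (-1 : F)) (neg_ne_zero.2 one_ne_zero),
      Other.smul ?_ hne⟩
    obtain ⟨d, hd, hdf⟩ := hov
    have hd' := (flag_dual_iff.1 hdf).conj hz
    rw [leftVec_isometry hs hiso, hmv u, e2] at hd'
    refine ⟨_, ?_, hd'.toDual⟩
    intro s t e
    have e' := congrArg (((z⁻¹ : GL (Fin 3) F) : Matrix (Fin 3) (Fin 3) F) *ᵥ ·) e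
    have hzi : ((z⁻¹ : GL (Fin 3) F) : Matrix (Fin 3) (Fin 3) F) *ᵥ v = -v := by
      have := congrArg (((z⁻¹ : GL (Fin 3) F) : Matrix (Fin 3) (Fin 3) F) *ᵥ ·) hzv
      simp only [mulVec_mulVec, Units.inv_mul, one_mulVec, mulVec_neg] at this
      rw [← neg_neg (((z⁻¹ : GL (Fin 3) F) : Matrix (Fin 3) (Fin 3) F) *ᵥ v), ← this]
    simp only [mulVec_add, mulVec_smul, mulVec_mulVec, Units.inv_mul, one_mulVec, mulVec_zero, hzi] at e'
    obtain ⟨h1, h2'⟩ := hd (-s) t (by rw [← e', neg_smul, smul_neg])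
    exact ⟨neg_eq_zero.1 h1, h2'⟩
  have h1 := himg 1
  set p₀ := Q u - (1 : F) ^ 2 * Q x with hp₀
  set r₀ := 2 * (1 : F) * Q u with hr₀
  have hr₀0 : r₀ ≠ 0 := by rw [hr₀, mul_one]; exact mul_ne_zero h2 hu
  set u₁ := p₀ • u + r₀ • x with hu₁
  have hil : Indep (leftVec B u) (leftVec B u₁) := by
    refine indep_of_dot (x := x) (by rw [leftVec_dot hQ, hxu]) ?_ hfl.axis_ne
    rw [leftVec_dot hQ, hu₁, hs.add_right, hs.smul_right, hs.smul_right, hxu, polar_self hQ, mul_zero,
      zero_add]
    exact mul_ne_zero hr₀0 (mul_ne_zero h2 hxn)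
  have hsl : ∀ b : F, (Q u - b ^ 2 * Q x) - 2 * b * Q u * p₀ / r₀ ≠ 0 →
      Other (dual M) (leftVec B u +
        ((2 * b * Q u / r₀) / ((Q u - b ^ 2 * Q x) - 2 * b * Q u * p₀ / r₀)) • leftVec B u₁) v := by
    intro b hb
    set P := (Q u - b ^ 2 * Q x) - 2 * b * Q u * p₀ / r₀ with hP
    have := (himg b).2.smul (inv_ne_zero hb)
    convert this using 1
    rw [hu₁, hs.leftVec_add, hs.leftVec_smul, hs.leftVec_smul, hs.leftVec_add, hs.leftVec_smul,
      hs.leftVec_smul]
    simp only [RingEquiv.refl_apply, smul_add, smul_smul]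
    match_scalars <;> field_simp <;> (try rw [hP]) <;> (try field_simp) <;> ring
  rcases slopes (M := dual M) hil hfl.toDual h1.1.toDual hov h1.2 with hr | ⟨E, l, hE, hl, -, hsl'⟩
  · exact rootIn_of_dual hr
  exfalso
  letI := Fintype.ofFinite F
  set T : Finset F := Finset.univ \ {1, -(Q u / Q x)} with hT
  set φ : F → F := fun b => l * ((2 * b * Q u / r₀) / ((Q u - b ^ 2 * Q x) - 2 * b * Q u * p₀ / r₀))
  have hP0 : ∀ b ∈ T, (Q u - b ^ 2 * Q x) - 2 * b * Q u * p₀ / r₀ ≠ 0 := by
    intro b hb e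
    have e' : (b - 1) * (b * Q x + Q u) = 0 := by
      have hu2 : (2 : F) * Q u ≠ 0 := mul_ne_zero h2 hu
      rw [hr₀, hp₀] at e
      field_simp at e
      linear_combination -e
    simp only [T, Finset.mem_sdiff, Finset.mem_univ, Finset.mem_insert, Finset.mem_singleton, true_and,
      not_or] at hb
    rcases mul_eq_zero.1 e' with h | h
    · exact hb.1 (sub_eq_zero.1 h)
    · exact hb.2 (by field_simp; linear_combination h)
  have hfib : ∀ e ∈ (Finset.univ : Finset E), (T.filter fun b => φ b = e.1).card ≤ 2 := by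
    intro e _
    by_cases hb : ∃ b ∈ T, φ b = e.1
    · obtain ⟨b, hbT, hbe⟩ := hb
      refine (Finset.card_le_card (t := {b, -(Q u) / (b * Q x)}) fun c hc => ?_).trans Finset.card_le_two
      simp only [Finset.mem_filter] at hc
      have h' : φ c = φ b := hc.2.trans hbe.symm
      have e1 := hP0 b hbT
      have e2 := hP0 c hc.1
      simp only [φ] at h'
      have h'' := mul_left_cancel₀ hl h'
      rw [div_eq_div_iff e2 e1, hr₀, hp₀] at h''
      have hu2 : (2 : F) * Q u ≠ 0 := mul_ne_zero h2 hu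
      field_simp at h''
      have h3 : (c - b) * (Q u + b * c * Q x) = 0 := by linear_combination h''
      simp only [Finset.mem_insert, Finset.mem_singleton]
      rcases mul_eq_zero.1 h3 with h | h
      · exact Or.inl (sub_eq_zero.1 h)
      · have hb0 : b ≠ 0 := by
          rintro rfl
          exact hu (by simpa using h)
        exact Or.inr (by field_simp; linear_combination h)
    · rw [Finset.filter_false_of_mem fun b hb' he => hb ⟨b, hb', he⟩]
      simp
  have hcard : T.card ≤ 2 * Fintype.card E := by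
    have hmaps : T ⊆ (Finset.univ : Finset E).biUnion fun e => T.filter fun b => φ b = e.1 := by
      intro b hb
      simp only [Finset.mem_biUnion, Finset.mem_univ, true_and, Finset.mem_filter]
      exact ⟨⟨φ b, hsl' _ (hsl b (hP0 b hb))⟩, hb, rfl⟩
    calc T.card ≤ _ := Finset.card_le_card hmaps
      _ ≤ (Finset.univ : Finset E).card * 2 := Finset.card_biUnion_le_card_mul _ _ _ hfib
      _ = 2 * Fintype.card E := by rw [Finset.card_univ, mul_comm]
  have h5 : Fintype.card F ≤ T.card + 2 := by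
    have h5' := Finset.le_card_sdiff ({1, -(Q u / Q x)} : Finset F) (Finset.univ : Finset F)
    rw [← hT, Finset.card_univ] at h5'
    have := Finset.card_le_two (a := (1 : F)) (b := -(Q u / Q x))
    omega
  have h6 := sq_card_subfield_le hE
  rw [Nat.card_eq_fintype_card (α := F)] at hq h6
  rw [Nat.card_eq_fintype_card (α := E), pow_two] at h6
  by_cases h7 : Fintype.card E ≤ 3
  · omega
  · have := Nat.mul_le_mul_right (Fintype.card E) (show 4 ≤ Fintype.card E by omega)
    omega

/-- Every transvection leads to a root group. -/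
theorem exists_rootIn [Finite F] (hq : 9 ≤ Nat.card F)
    (hM : quadSimilarityGroup Q ⊓ specialLinear (Fin 3) F ≤ M) {v a : Fin 3 → F} (hfl : Flag M v a)
    (hns : Q v ≠ 0 ∨ ∀ c : F, c • leftVec B v ≠ a) :
    ∃ x d, x ≠ 0 ∧ d ≠ 0 ∧ RootIn M x d := by
  have hs := sesqForm_of_quadratic hQ
  obtain ⟨u, rfl⟩ := hs.leftVec_surjective a
  have hvu : B v u = 0 := by rw [← leftVec_dot hQ]; exact hfl.dot
  have hsing : ∀ {R w : Fin 3 → F}, Q R = 0 → Flag M R (leftVec B w) →
      (∀ c : F, c • leftVec B R ≠ leftVec B w) → ∃ x d, x ≠ 0 ∧ d ≠ 0 ∧ RootIn M x d := by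
    intro R w hR hf hne
    have hRw : B R w = 0 := by rw [← leftVec_dot hQ]; exact hf.dot
    have hw : Q w ≠ 0 := fun h => by
      obtain ⟨c, hc⟩ := smul_of_singular hQ h2 hf.centre_ne hR (by rw [polar_symm, hRw]) h
      exact hne c (by rw [← hc, hs.leftVec_smul, RingEquiv.refl_apply])
    exact ⟨R, _, hf.centre_ne, hf.axis_ne, rootIn_of_singular hQ h2 (by omega) hM hR hw hf⟩
  by_cases hv : Q v = 0
  · exact hsing hv hfl (hns.resolve_left (not_not.2 hv))
  by_cases han : ∀ R, R ≠ 0 → B R v = 0 → Q R ≠ 0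
  · exact ⟨v, _, hfl.centre_ne, hfl.axis_ne, rootIn_of_anisotropic hQ h2 hq hM hv han hfl⟩
  push Not at han
  obtain ⟨R, hR0, hRv, hR⟩ := han
  have hvR : B v R = 0 := by rw [polar_symm, hRv]
  have htan : Flag M v (leftVec B R) → ∃ x d, x ≠ 0 ∧ d ≠ 0 ∧ RootIn M x d := fun h =>
    ⟨v, _, h.centre_ne, h.axis_ne, rootIn_of_tangent hQ h2 (by omega) hM hv hR hR0 h⟩
  by_cases haR : leftVec B u ⬝ᵥ R = 0
  · have hi : Indep v R := indep_symm (indep_of_dot (a := R) (b := v) (x := leftVec B v)
      (by rw [dotProduct_comm, leftVec_dot hQ, hRv]) (by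
        rw [dotProduct_comm, leftVec_dot hQ, polar_self hQ]; exact mul_ne_zero h2 hv) hR0)
    obtain ⟨c, hc⟩ := exists_smul_of_dot hi hfl.axis_ne
      (by rw [dotProduct_comm]; exact hfl.dot) (by rw [dotProduct_comm, haR])
      (w := leftVec B R) (by rw [dotProduct_comm, leftVec_dot hQ, hvR])
      (by rw [dotProduct_comm, leftVec_dot hQ, polar_self hQ, hR, mul_zero])
    have hc0 : c ≠ 0 := fun e => hs.leftVec_ne_zero hR0 (by rw [← hc, e, zero_smul])
    exact htan (hc ▸ hfl.smul_axis hc0)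
  obtain ⟨-, -, -, c, hc0, hm⟩ := id hfl
  set t := -(c * (leftVec B u ⬝ᵥ R))⁻¹ with ht
  have ht0 : t ≠ 0 := neg_ne_zero.2 (inv_ne_zero (mul_ne_zero hc0 haR))
  set w := v + (t / 2) • R
  have hw : Q w = Q v := by rw [quad_add (Q := Q), hQ.smul, hR, hs.smul_right, hvR]; ring
  have e1 : B v w = 2 * Q v := by rw [hs.add_right, hs.smul_right, hvR, polar_self hQ]; ring
  have h' := (hfl.refl_image hQ h2 hM (w := w) (by rw [hw]; exact hv)).conj hm
  have e3 : -v + (2 * Q v / Q v) • w = v + t • R := by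
    rw [mul_div_assoc, div_self hv, mul_one, smul_add, smul_smul, mul_div_cancel₀ _ h2, two_smul]
    abel
  rw [e1, hw, e3, tv_mulVec (by rw [dotProduct_smul, hfl.dot, smul_zero]), dotProduct_add,
    dotProduct_smul, hfl.dot, zero_add, smul_eq_mul, smul_smul,
    show t * (leftVec B u ⬝ᵥ R) * c = -1 by rw [ht]; field_simp,
    show v + t • R + (-1 : F) • v = t • R by module] at h'
  have h'' := h'.smul_centre (inv_ne_zero ht0)
  rw [inv_smul_smul₀ ht0] at h''
  set d := leftVec B (-u + (B u w / Q v) • w) ᵥ*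
    (((tv (c • v) (leftVec B u))⁻¹ : GL (Fin 3) F) : Matrix (Fin 3) (Fin 3) F)
  by_cases hp : ∃ k : F, k • leftVec B R = d
  · obtain ⟨k, hk⟩ := hp
    rw [← hk] at h''
    have hk0 : k ≠ 0 := fun e => h''.axis_ne (by rw [e, zero_smul])
    have h3 := h''.smul_axis (inv_ne_zero hk0)
    rw [inv_smul_smul₀ hk0] at h3
    exact htan (h3.spread hfl (by rw [leftVec_dot hQ, hvR]))
  · push Not at hp
    obtain ⟨w', hw'⟩ := hs.leftVec_surjective d
    rw [← hw'] at h'' hp
    exact hsing hR h'' hp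

/-- **The orthogonal similarities are maximal in `SL₃`.** -/
theorem specialLinear_le_of_orth [Fintype F] (hodd : Odd (Fintype.card F))
    (hM : quadSimilarityGroup Q ⊓ specialLinear (Fin 3) F ≤ M) {g : GL (Fin 3) F} (hg : g ∈ M)
    (hg' : g ∉ quadSimilarityGroup Q) : specialLinear (Fin 3) F ≤ M := by
  have hs := sesqForm_of_quadratic hQ
  have hirr := irreducible_of_orth hQ h2 hM
  -- a transvection
  obtain ⟨v, a, hfl, hns⟩ : ∃ v a, Flag M v a ∧ (Q v ≠ 0 ∨ ∀ c : F, c • leftVec B v ≠ a) := by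
    obtain ⟨e, f, hh, hne⟩ := exists_bad_hom hQ h2 hM hg hg'
    by_cases he : Q e = 0
    · obtain ⟨y, hye, hy⟩ := exists_orth_not_mem hQ h2 hh.ne_left
      have hy0 : Q y ≠ 0 := fun h => by
        obtain ⟨c, hc⟩ := smul_of_singular hQ h2 hh.ne_left he hye h
        exact hy c hc
      set w := y + (1 - f ⬝ᵥ y) • e
      have hfw : f ⬝ᵥ w = 1 := by rw [dotProduct_add, dotProduct_smul, hh.1]; simp
      have hw : Q w = Q y := by rw [quad_add (Q := Q), hQ.smul, he, hs.smul_right, hye]; ring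
      have hew : B e w = 0 := by
        rw [hs.add_right, hs.smul_right, polar_self hQ, he, polar_symm e y, hye]; ring
      obtain ⟨hw1, z, hz, hmv, -⟩ := exists_refl hQ h2 hM (w := w) (by rw [hw]; exact hy0)
      have hzi : z⁻¹ = z := by
        refine inv_eq_of_mul_eq_one_right (Units.ext (Matrix.mulVec_injective (funext fun x => ?_)))
        rw [Units.val_mul, ← mulVec_mulVec, hmv, hmv, Units.val_one, one_mulVec, hs.add_left,
          hs.neg_left, hs.smul_left, polar_self hQ,
          show (-B x w + B x w / Q w * (2 * Q w)) / Q w = B x w / Q w by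
            have : Q w ≠ 0 := by rw [hw]; exact hy0
            field_simp; ring]
        abel
      have hh' := (hh.conj hz).smul (s := (-1 : F)) (neg_ne_zero.2 one_ne_zero)
      rw [hmv, hew, zero_div, zero_smul, add_zero, neg_smul, one_smul, neg_neg, hzi] at hh'
      set f' := (-1 : F)⁻¹ • (f ᵥ* (z : Matrix (Fin 3) (Fin 3) F))
      have hf' : ∀ x, f' ⬝ᵥ x = f ⬝ᵥ x - B x w / Q w := fun x => by
        rw [smul_dotProduct, ← dotProduct_mulVec, hmv, dotProduct_add, dotProduct_neg, dotProduct_smul,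
          hfw, inv_neg, inv_one, smul_eq_mul, smul_eq_mul]
        ring
      have hne' : f ≠ f' := fun e' => by
        have := hf' w
        rw [← e', hfw, polar_self hQ, mul_div_assoc, div_self (by rw [hw]; exact hy0), mul_one] at this
        exact h2 (by linear_combination this)
      refine ⟨e, _, hh.flag_of_two_axes h2 hh' hne', Or.inr fun c hc => ?_⟩
      have := congrArg (· ⬝ᵥ w) hc
      simp only [smul_dotProduct, leftVec_dot hQ, sub_dotProduct, hf', polar_symm w e, hew, hfw,
        polar_self hQ, smul_zero, mul_div_assoc, div_self (show Q w ≠ 0 by rw [hw]; exact hy0),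
        mul_one] at this
      exact h2 (by linear_combination this)
    · refine ⟨e, _, hh.flag_of_two_axes h2 (exists_refl hQ h2 hM he).1 ?_, Or.inl he⟩
      exact fun e' => hne _ e'.symm
  -- its root group
  suffices h : ∃ x d, x ≠ 0 ∧ d ≠ 0 ∧ RootIn M x d by
    obtain ⟨x, d, hx, hd, h⟩ := h
    exact specialLinear_le_of_rootIn hirr hx hd h
  obtain ⟨p, hp⟩ := CharP.exists F
  obtain ⟨n, hpp, hn⟩ := FiniteField.card F p
  haveI := Fact.mk hpp
  by_cases hn1 : (n : ℕ) = 1
  · exact ⟨v, a, hfl.centre_ne, hfl.axis_ne, hfl.rootIn_of_prime (p := p) (by rw [hn, hn1, pow_one])⟩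
  refine exists_rootIn hQ h2 ?_ hM hfl hns
  rw [Nat.card_eq_fintype_card, hn]
  have hp2 : p ≠ 2 := by
    rintro rfl
    rw [hn] at hodd
    exact absurd hodd (Nat.not_odd_iff_even.mpr (Nat.even_pow.mpr ⟨even_two, n.pos.ne'⟩))
  have h3 : 3 ≤ p := by have := hpp.two_le; omega
  calc 9 = 3 ^ 2 := rfl
    _ ≤ p ^ 2 := Nat.pow_le_pow_left h3 2
    _ ≤ p ^ (n : ℕ) := Nat.pow_le_pow_right hpp.pos (by have := n.pos; omega)

end

theorem isMaximalIn_orth₃ [Fintype F] (hodd : Odd (Fintype.card F)) {Q : (Fin 3 → F) → F}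
    (hQ : IsNondegenerateQuadraticForm Q) :
    IsMaximalIn (specialLinear (Fin 3) F) (quadSimilarityGroup Q ⊓ specialLinear (Fin 3) F) := by
  have h2 := two_ne_zero_of_odd hodd
  have hs := sesqForm_of_quadratic hQ
  refine isMaximalIn_of inf_le_right ?_ fun M hHM hMK g hg hg' =>
    specialLinear_le_of_orth hQ h2 hodd hHM hg fun h => hg' ⟨h, hMK hg⟩
  obtain ⟨v, a, h⟩ := hs.exists_tv_not_similar (by simp)
  refine ⟨tv v a, tv_mem_specialLinear v a, fun h' => h ?_⟩
  obtain ⟨c, hc⟩ := h'.1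
  refine ⟨c, fun x y => ?_⟩
  simp only [QuadraticMap.polar, ← mulVec_add, hc]
  ring

end CfsgLib.SLThree
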