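import Cfsg.Agent.SLThree.Slopes
import Mathlib.LinearAlgebra.Projectivization.Basic
import Mathlib.LinearAlgebra.Matrix.Charpoly.FiniteField

/-!
# Homologies of order two

Two homologies with the same centre, or with the same axis, give a transvection. Hence in a group
without transvections the axis is determined by the centre, commuting is symmetric, and not every
point of the plane is a centre: a polarity of the plane has an absolute point.
-/

set_option autoImplicit false
set_option linter.unusedSectionVars false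

namespace CfsgLib.SLThree

open Matrix Cfsg.Geo CfsgLib.MaxSub

variable {F : Type*} [Field F] {M : Subgroup (GL (Fin 3) F)} {e f e' f' : Fin 3 → F}

/-- `x ↦ -x + 2 (f · x) e`: it fixes `e` and inverts `ker f` when `f · e = 1`. -/
def homMat (e f : Fin 3 → F) : Matrix (Fin 3) (Fin 3) F := -1 + (2 : F) • vecMulVec e f

theorem homMat_sq (h : f ⬝ᵥ e = 1) : homMat e f * homMat e f = 1 := by
  have h2 : vecMulVec e f * vecMulVec e f = vecMulVec e f := by
    rw [vecMulVec_mul_vecMulVec, h, one_smul]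
  simp only [homMat, add_mul, mul_add, neg_mul, mul_neg, one_mul, mul_one, neg_neg, smul_mul_assoc,
    mul_smul_comm, h2, smul_smul]
  ext i j
  simp
  ring

/-- A homology of order two of `M`. -/
def Hom (M : Subgroup (GL (Fin 3) F)) (e f : Fin 3 → F) : Prop :=
  f ⬝ᵥ e = 1 ∧ ∃ g ∈ M, (g : Matrix (Fin 3) (Fin 3) F) = homMat e f

theorem Hom.ne_left (h : Hom M e f) : e ≠ 0 := fun e0 => by simpa [e0] using h.1

theorem Hom.ne_right (h : Hom M e f) : f ≠ 0 := fun e0 => by simpa [e0] using h.1

theorem homMat_smul {s : F} (hs : s ≠ 0) : homMat (s • e) (s⁻¹ • f) = homMat e f := by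
  rw [homMat, homMat, smul_vecMulVec, vecMulVec_smul, smul_smul s, mul_inv_cancel₀ hs, one_smul]

theorem Hom.smul (h : Hom M e f) {s : F} (hs : s ≠ 0) : Hom M (s • e) (s⁻¹ • f) := by
  obtain ⟨h1, g, hg, he⟩ := h
  exact ⟨by simp [smul_dotProduct, dotProduct_smul, h1, hs], g, hg, by rw [he, homMat_smul hs]⟩

theorem homMat_conj (g : GL (Fin 3) F) (e f : Fin 3 → F) :
    (g : Matrix (Fin 3) (Fin 3) F) * homMat e f * ((g⁻¹ : GL (Fin 3) F) : Matrix (Fin 3) (Fin 3) F) =
      homMat ((g : Matrix (Fin 3) (Fin 3) F) *ᵥ e)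
        (f ᵥ* ((g⁻¹ : GL (Fin 3) F) : Matrix (Fin 3) (Fin 3) F)) := by
  rw [homMat, homMat, mul_add, add_mul, mul_neg, mul_one, neg_mul, Units.mul_inv, mul_smul_comm,
    smul_mul_assoc, mul_vecMulVec, vecMulVec_mul]

theorem Hom.conj (h : Hom M e f) {g : GL (Fin 3) F} (hg : g ∈ M) :
    Hom M ((g : Matrix (Fin 3) (Fin 3) F) *ᵥ e)
      (f ᵥ* ((g⁻¹ : GL (Fin 3) F) : Matrix (Fin 3) (Fin 3) F)) := by
  obtain ⟨h1, z, hz, he⟩ := h
  exact ⟨by rw [dot_conj, h1], g * z * g⁻¹, M.mul_mem (M.mul_mem hg hz) (M.inv_mem hg),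
    by rw [Units.val_mul, Units.val_mul, he, homMat_conj]⟩

/-- Two axes at one centre give a transvection. -/
theorem Hom.flag_of_two_axes (h2 : (2 : F) ≠ 0) (h : Hom M e f) (h' : Hom M e f') (hne : f ≠ f') :
    Flag M e (f' - f) := by
  obtain ⟨h1, g, hg, hge⟩ := h
  obtain ⟨h1', g', hg', hge'⟩ := h'
  have hdot : (f' - f) ⬝ᵥ ((2 : F) • e) = 0 := by
    simp [dotProduct_smul, sub_dotProduct, h1, h1']
  refine ⟨by simp [sub_dotProduct, h1, h1'], fun e0 => by simp [e0] at h1, sub_ne_zero.2 hne.symm,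
    2, h2, ?_⟩
  convert M.mul_mem hg hg' using 1
  apply Units.ext
  rw [Units.val_mul, hge, hge', tv_coe hdot, homMat, homMat]
  have hp : vecMulVec e f * vecMulVec e f' = vecMulVec e f' := by
    rw [vecMulVec_mul_vecMulVec, h1, one_smul]
  simp only [add_mul, mul_add, neg_mul, mul_neg, one_mul, mul_one, neg_neg, smul_mul_assoc,
    mul_smul_comm, hp, smul_smul]
  ext i j
  simp [vecMulVec_apply]
  ring

/-- Two centres on one axis give a transvection. -/
theorem Hom.flag_of_two_centres (h2 : (2 : F) ≠ 0) (h : Hom M e f) (h' : Hom M e' f) (hne : e ≠ e') :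
    Flag M (e' - e) f := by
  obtain ⟨h1, g, hg, hge⟩ := h
  obtain ⟨h1', g', hg', hge'⟩ := h'
  have hdot : f ⬝ᵥ ((2 : F) • (e - e')) = 0 := by
    simp [dotProduct_smul, dotProduct_sub, h1, h1']
  refine ⟨by simp [dotProduct_sub, h1, h1'], sub_ne_zero.2 hne.symm, fun e0 => by simp [e0] at h1,
    -2, neg_ne_zero.2 h2, ?_⟩
  convert M.mul_mem hg hg' using 1
  apply Units.ext
  rw [Units.val_mul, hge, hge',
    show (-2 : F) • (e' - e) = (2 : F) • (e - e') by rw [neg_smul, ← smul_neg, neg_sub],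
    tv_coe hdot, homMat, homMat]
  have hp : vecMulVec e f * vecMulVec e' f = vecMulVec e f := by
    rw [vecMulVec_mul_vecMulVec, h1', one_smul]
  simp only [add_mul, mul_add, neg_mul, mul_neg, one_mul, mul_one, neg_neg, smul_mul_assoc,
    mul_smul_comm, hp, smul_smul]
  ext i j
  simp [vecMulVec_apply]
  ring

/-- An element of order two of determinant one is a homology. -/
theorem exists_hom (h2 : (2 : F) ≠ 0) {g : GL (Fin 3) F} (hg : g ∈ M) (hsl : g ∈ specialLinear (Fin 3) F)
    (h1 : g * g = 1) (hne : g ≠ 1) : ∃ e f, Hom M e f := by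
  set G := (g : Matrix (Fin 3) (Fin 3) F) with hG
  have hsq : G * G = 1 := by rw [hG, ← Units.val_mul, h1, Units.val_one]
  have hdet : G.det = 1 := by
    rw [specialLinear, MonoidHom.mem_ker] at hsl
    rw [hG, ← Matrix.GeneralLinearGroup.val_det_apply, hsl, Units.val_one]
  let P : Matrix (Fin 3) (Fin 3) F := (2 : F)⁻¹ • (1 + G)
  have hPG : G = -1 + (2 : F) • P := by
    simp only [P, smul_smul, mul_inv_cancel₀ h2, one_smul]; abel
  have hPP : P * P = P := by
    simp only [P, smul_mul_assoc, mul_smul_comm, smul_smul, add_mul, mul_add, one_mul, mul_one, hsq]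
    ext i j
    simp only [Matrix.smul_apply, Matrix.add_apply, smul_eq_mul]
    field_simp
    ring
  -- the fixed space
  let φ := Matrix.toLin' P
  have hφ : LinearMap.IsProj (LinearMap.range φ) φ :=
    ⟨fun x => ⟨x, rfl⟩, by rintro _ ⟨x, rfl⟩; simp [φ, mulVec_mulVec, hPP]⟩
  have hrk : Module.finrank F (LinearMap.range φ) = 1 := by
    have hle := Submodule.finrank_le (LinearMap.range φ)
    rw [Module.finrank_fin_fun] at hle
    have hd : LinearMap.det (-(LinearMap.id : (Fin 3 → F) →ₗ[F] Fin 3 → F) + (2 : F) • φ) = 1 := by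
      rw [← hdet, ← LinearMap.det_toLin' G]
      congr 1
      rw [hPG]
      simp [φ, map_add, map_smul, map_neg, Matrix.toLin'_one]
    have hc := hφ.isCompl
    have hrange : ∀ x ∈ LinearMap.range φ, (-(LinearMap.id : (Fin 3 → F) →ₗ[F] Fin 3 → F) + (2 : F) • φ) x = x := by
      intro x hx
      simp [hφ.map_id x hx, two_smul]
    have hker : ∀ x ∈ LinearMap.ker φ, (-(LinearMap.id : (Fin 3 → F) →ₗ[F] Fin 3 → F) + (2 : F) • φ) x = -x := by
      intro x hx
      simp [LinearMap.mem_ker.1 hx]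
    have he : -(LinearMap.id : (Fin 3 → F) →ₗ[F] Fin 3 → F) + (2 : F) • φ =
        (Submodule.prodEquivOfIsCompl _ _ hc).conj
          ((LinearMap.id : LinearMap.range φ →ₗ[F] LinearMap.range φ).prodMap
            (-LinearMap.id : LinearMap.ker φ →ₗ[F] LinearMap.ker φ)) := by
      apply LinearMap.ext
      intro x
      obtain ⟨⟨u, w⟩, rfl⟩ := (Submodule.prodEquivOfIsCompl _ _ hc).surjective x
      rw [LinearEquiv.conj_apply_apply, LinearEquiv.symm_apply_apply]
      simp only [Submodule.coe_prodEquivOfIsCompl', map_add, hrange _ u.2, hker _ w.2]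
      simp
    rw [he, LinearEquiv.conj_apply, LinearMap.comp_assoc, LinearMap.det_conj, LinearMap.det_prodMap, LinearMap.det_id, one_mul,
      ← neg_one_smul F (LinearMap.id : LinearMap.ker φ →ₗ[F] LinearMap.ker φ), LinearMap.det_smul,
      LinearMap.det_id, mul_one] at hd
    have hk := φ.finrank_range_add_finrank_ker
    rw [Module.finrank_fin_fun] at hk
    have hm1 : (-1 : F) ≠ 1 := fun e => h2 (by linear_combination -e)
    have hg1 : Module.finrank F (LinearMap.ker φ) ≠ 0 := fun hz => hne (by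
      apply Units.ext
      rw [← hG, Units.val_one]
      apply Matrix.toLin'.injective
      apply LinearMap.ext
      intro x
      have hz' : LinearMap.ker φ = ⊥ := Submodule.finrank_eq_zero.1 hz
      have hx : φ x = x := by
        have : φ x - x ∈ LinearMap.ker φ := by simp [φ, mulVec_sub, mulVec_mulVec, hPP]
        rw [hz', Submodule.mem_bot] at this
        exact sub_eq_zero.1 this
      simp only [φ, Matrix.toLin'_apply] at hx
      simp [hPG, add_mulVec, neg_mulVec, smul_mulVec, hx, two_smul])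
    interval_cases hr : Module.finrank F (LinearMap.range φ)
    · rw [show Module.finrank F (LinearMap.ker φ) = 3 by omega] at hd
      norm_num at hd
      exact absurd hd hm1
    · rfl
    · rw [show Module.finrank F (LinearMap.ker φ) = 1 by omega, pow_one] at hd
      exact absurd hd hm1
    · omega
  obtain ⟨⟨e, he⟩, he0, hspan⟩ := finrank_eq_one_iff'.1 hrk
  have he0' : e ≠ 0 := fun h => he0 (Subtype.ext h)
  have hPe : P *ᵥ e = e := by simpa [φ] using hφ.map_id e he
  have hex : ∀ x, ∃ c : F, c • e = P *ᵥ x := fun x => by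
    obtain ⟨c, hc⟩ := hspan ⟨φ x, x, rfl⟩
    exact ⟨c, by simpa [φ] using congrArg Subtype.val hc⟩
  choose c hc using hex
  let f : Fin 3 → F := fun j => c (Pi.single j 1)
  have hP : P = vecMulVec e f := by
    ext i j
    have h := congrFun (hc (Pi.single j 1)) i
    simp only [Pi.smul_apply, smul_eq_mul, mulVec_single_one, col_apply] at h
    rw [← h, vecMulVec_apply, mul_comm]
  refine ⟨e, f, ?_, g, hg, by rw [← hG, hPG, homMat, hP]⟩
  rw [hP, vecMulVec_mulVec'] at hPe
  exact smul_left_injective F he0' (show (f ⬝ᵥ e) • e = (1 : F) • e by rw [hPe, one_smul])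

/-- Uniqueness of axes and centres. -/
def NoFlag (M : Subgroup (GL (Fin 3) F)) : Prop := ∀ v a, ¬ Flag M v a

theorem Hom.axis_unique (h2 : (2 : F) ≠ 0) (hM : NoFlag M) (h : Hom M e f) (h' : Hom M e f') : f = f' :=
  by_contra fun hne => hM _ _ (h.flag_of_two_axes h2 h' hne)

theorem Hom.centre_unique (h2 : (2 : F) ≠ 0) (hM : NoFlag M) (h : Hom M e f) (h' : Hom M e' f) :
    e = e' :=
  by_contra fun hne => hM _ _ (h.flag_of_two_centres h2 h' hne)

/-- A centre on the axis of a second homology: the converse also holds. -/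
theorem Hom.dot_symm (h2 : (2 : F) ≠ 0) (hM : NoFlag M) (h : Hom M e f) (h' : Hom M e' f')
    (hd : f ⬝ᵥ e' = 0) : f' ⬝ᵥ e = 0 := by
  obtain ⟨h1, g, hg, hge⟩ := h
  have hc := (h'.conj hg).smul (s := (-1 : F)) (neg_ne_zero.2 one_ne_zero)
  have hgi : g⁻¹ = g := inv_eq_of_mul_eq_one_right (Units.ext (by
    rw [Units.val_mul, Units.val_one, hge, homMat_sq h1]))
  have e1 : (-1 : F) • ((g : Matrix (Fin 3) (Fin 3) F) *ᵥ e') = e' := by
    rw [hge, homMat, add_mulVec, neg_mulVec, one_mulVec, smul_mulVec, vecMulVec_mulVec', hd,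
      zero_smul, smul_zero, add_zero, neg_smul, one_smul, neg_neg]
  rw [e1] at hc
  have := h'.axis_unique h2 hM hc
  rw [hgi, hge] at this
  have h3 := congrArg (· ⬝ᵥ e) this
  simp only [smul_dotProduct, homMat, vecMul_add, vecMul_neg, vecMul_one, vecMul_smul,
    vecMul_vecMulVec, add_dotProduct, neg_dotProduct, h1, smul_eq_mul] at h3
  have h4 : (2 : F) * (f' ⬝ᵥ e) = 0 := by
    rw [inv_neg, inv_one] at h3
    linear_combination h3
  exact (mul_eq_zero.1 h4).resolve_left h2

/-- The number of points of a non-zero subspace is one modulo the characteristic. -/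
theorem card_points_mod [Fintype F] {p : ℕ} [CharP F p]
    (W : Submodule F (Fin 3 → F)) (hW : W ≠ ⊥) :
    (Nat.card {r : Projectivization F (Fin 3 → F) // r.rep ∈ W} : ZMod p) = 1 := by
  classical
  haveI : Fintype (Projectivization F (Fin 3 → F)) := Fintype.ofFinite _
  let f : {r : Projectivization F (Fin 3 → F) // r.rep ∈ W} × Fˣ → {x : W // x ≠ 0} :=
    fun z => ⟨⟨(z.2 : F) • z.1.1.rep, W.smul_mem _ z.1.2⟩, fun h => by
      have := congrArg Subtype.val h
      simp [z.1.1.rep_nonzero] at this⟩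
  have hf : Function.Bijective f := by
    refine ⟨fun ⟨⟨r, hr⟩, u⟩ ⟨⟨r', hr'⟩, u'⟩ h => ?_, fun ⟨⟨x, hx⟩, hx0⟩ => ?_⟩
    · have e : (u : F) • r.rep = (u' : F) • r'.rep :=
        congrArg (fun z : {x : W // x ≠ 0} => (z.1 : Fin 3 → F)) h
      have hrr : r = r' := by
        rw [← r.mk_rep, ← r'.mk_rep, Projectivization.mk_eq_mk_iff']
        exact ⟨(u : F)⁻¹ * u', by rw [mul_smul, ← e, inv_smul_smul₀ u.ne_zero]⟩
      subst hrr
      exact Prod.ext rfl (Units.ext (smul_left_injective F r.rep_nonzero e))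
    · have hx0' : x ≠ 0 := fun h => hx0 (Subtype.ext h)
      set r := Projectivization.mk F x hx0'
      obtain ⟨c, hc⟩ := (Projectivization.mk_eq_mk_iff' F _ _ r.rep_nonzero hx0').1 r.mk_rep
      have hc0 : c ≠ 0 := fun e => r.rep_nonzero (by rw [← hc, e, zero_smul])
      refine ⟨⟨⟨r, hc ▸ W.smul_mem c hx⟩, (Units.mk0 c hc0)⁻¹⟩, Subtype.ext (Subtype.ext ?_)⟩
      simp [f, ← hc, hc0]
  have hcard := Nat.card_eq_of_bijective f hf
  rw [Nat.card_prod, Nat.card_units, Nat.card_eq_fintype_card (α := {x : W // x ≠ 0}),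
    Fintype.card_subtype_compl, Fintype.card_subtype_eq] at hcard
  have hq := Fintype.card_pos (α := F)
  have hW' : p ∣ Fintype.card W := by
    rw [Module.card_eq_pow_finrank (K := F)]
    refine dvd_pow ?_ fun h => hW (Submodule.finrank_eq_zero.1 h)
    exact (CharP.cast_eq_zero_iff F p _).1 (Nat.cast_card_eq_zero F)
  have hF : (Fintype.card F : ZMod p) = 0 :=
    (CharP.cast_eq_zero_iff (ZMod p) p _).2 ((CharP.cast_eq_zero_iff F p _).1 (Nat.cast_card_eq_zero F))
  have := congrArg (fun n : ℕ => (n : ZMod p)) hcard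
  rw [Nat.card_eq_fintype_card (α := F)] at this
  simp only [Nat.cast_mul, Nat.cast_sub (Fintype.card_pos (α := W) : 1 ≤ Fintype.card W),
    Nat.cast_sub (show 1 ≤ Fintype.card F from hq), hF, (CharP.cast_eq_zero_iff (ZMod p) p _).2 hW',
    Nat.cast_one, zero_sub, mul_neg, mul_one, neg_inj] at this
  exact this

/-- **Polarities have absolute points.** If every point is a centre there is a transvection. -/
theorem exists_flag_of_all_centres [Fintype F] {p : ℕ} [Fact p.Prime] [CharP F p] (hp : p ≠ 2)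
    (hall : ∀ x : Fin 3 → F, x ≠ 0 → ∃ s : F, s ≠ 0 ∧ ∃ f, Hom M (s • x) f) :
    ∃ v a, Flag M v a := by
  classical
  by_contra hn
  push Not at hn
  have h2 : (2 : F) ≠ 0 := Ring.two_ne_zero (by rw [ringChar.eq F p]; exact hp)
  haveI : Fintype (Projectivization F (Fin 3 → F)) := Fintype.ofFinite _
  choose s hs f hf using fun r : Projectivization F (Fin 3 → F) => hall r.rep r.rep_nonzero
  have hzero : ∀ r t, f r ⬝ᵥ t.rep = 0 → f t ⬝ᵥ r.rep = 0 := by
    intro r t h
    have := (hf r).dot_symm h2 hn (hf t) (by rw [dotProduct_smul, h, smul_zero])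
    rw [dotProduct_smul] at this
    exact (smul_eq_zero.1 this).resolve_left (hs r)
  have hdiag : ∀ r, f r ⬝ᵥ r.rep ≠ 0 := fun r h => by
    have := (hf r).1
    rw [dotProduct_smul, h, smul_zero] at this
    exact zero_ne_one this
  let A : Matrix (Projectivization F (Fin 3 → F)) (Projectivization F (Fin 3 → F)) (ZMod p) :=
    Matrix.of fun r t => if f r ⬝ᵥ t.rep = 0 then 1 else 0
  let J : Matrix (Projectivization F (Fin 3 → F)) (Projectivization F (Fin 3 → F)) (ZMod p) :=
    Matrix.of fun _ _ => 1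
  have hcount : ∀ S : Set (Fin 3 → F), (∀ W : Submodule F (Fin 3 → F), (W : Set (Fin 3 → F)) = S → W ≠ ⊥) →
      ∀ W : Submodule F (Fin 3 → F), (W : Set (Fin 3 → F)) = S →
      (∑ t : Projectivization F (Fin 3 → F), if t.rep ∈ S then (1 : ZMod p) else 0) = 1 := by
    intro S hS W hW
    subst hW
    rw [Finset.sum_boole, ← Fintype.card_subtype, ← Nat.card_eq_fintype_card]
    exact card_points_mod W (hS W rfl)
  have row : ∀ r, ∑ t, A r t = 1 := by
    intro r
    refine (Finset.sum_congr rfl fun t _ => ?_).trans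
      (hcount {x | f r ⬝ᵥ x = 0} (fun W hW => ?_) (LinearMap.ker (dotProductEquiv F (Fin 3) (f r))) rfl)
    · simp [A]
    · intro hb
      obtain ⟨x, hx, hx'⟩ := exists_ne_zero_dot (f r)
      exact hx ((Submodule.eq_bot_iff W).1 hb x (show x ∈ (W : Set _) by rw [hW]; exact hx'))
  have hsym : ∀ r t, A r t = A t r := fun r t => by
    simp only [A, Matrix.of_apply]
    by_cases h : f r ⬝ᵥ t.rep = 0
    · rw [if_pos h, if_pos (hzero r t h)]
    · rw [if_neg h, if_neg (fun h' => h (hzero t r h'))]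
  have hAJ : A * J = J := by
    ext r t
    simp [Matrix.mul_apply, J, row r]
  have hAA : A * A = J := by
    ext r t
    rw [Matrix.mul_apply]
    refine (Finset.sum_congr rfl fun u _ => ?_).trans
      (hcount {x | f r ⬝ᵥ x = 0 ∧ f t ⬝ᵥ x = 0} (fun W hW hb => ?_)
        (LinearMap.ker (dotProductEquiv F (Fin 3) (f r)) ⊓ LinearMap.ker (dotProductEquiv F (Fin 3) (f t))) rfl)
    · rw [hsym u t]
      simp only [A, Matrix.of_apply, Set.mem_setOf_eq]
      by_cases h1 : f r ⬝ᵥ u.rep = 0 <;> by_cases h2' : f t ⬝ᵥ u.rep = 0 <;> simp [h1, h2']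
    · rcases indep_or_smul (hf r).ne_right (f t) with hi | ⟨c, hc⟩
      · exact hi.cross_ne_zero ((Submodule.eq_bot_iff W).1 hb _
          (show crossProduct (f r) (f t) ∈ (W : Set _) by
            rw [hW]; exact ⟨dot_self_cross _ _, dot_cross_self _ _⟩))
      · obtain ⟨x, hx, hx'⟩ := exists_ne_zero_dot (f r)
        exact hx ((Submodule.eq_bot_iff W).1 hb x (show x ∈ (W : Set _) by
          rw [hW]; exact ⟨hx', by rw [← hc, smul_dotProduct, hx', smul_zero]⟩))
  have hpow : ∀ n, A ^ (n + 2) = J := by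
    intro n
    induction n with
    | zero => rw [pow_two, hAA]
    | succ n ih => rw [show n + 1 + 2 = (n + 2) + 1 by omega, pow_succ', ih, hAJ]
  have h1 := ZMod.trace_pow_card A
  obtain ⟨m, hm⟩ : ∃ m, p = m + 2 := ⟨p - 2, by have := (Fact.out : p.Prime).two_le; omega⟩
  have hJ : J.trace = 1 := by
    rw [Matrix.trace]
    refine (Finset.sum_congr rfl fun t _ => ?_).trans
      (hcount (Set.univ) (fun W hW hb => ?_) ⊤ rfl)
    · simp [J]
    · have : (Pi.single 0 1 : Fin 3 → F) ∈ (W : Set _) := by rw [hW]; trivial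
      rw [hb] at this
      simpa using this
  have hA : A.trace = 0 := Finset.sum_eq_zero fun r _ => by simp [A, hdiag r]
  rw [hA, zero_pow (Fact.out : p.Prime).ne_zero, (congrArg (A ^ ·) hm).trans (hpow m), hJ] at h1
  exact one_ne_zero h1

end CfsgLib.SLThree
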