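import Cfsg.Agent.SLThree.Basic

/-!
# The field of the centres on an axis, and duality

If two centres on an axis both have a second axis, then the scalars of the transvections on that axis
form a module over a subfield, and the centres on the axis with a second axis have their slopes in it.
-/

set_option autoImplicit false
set_option linter.unusedSectionVars false

namespace CfsgLib.SLThree

open Matrix Cfsg.Geo CfsgLib.MaxSub

variable {F : Type*} [Field F] {M : Subgroup (GL (Fin 3) F)} {v w a b c d : Fin 3 → F}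

/-- `x` is the centre of transvections of `M` with axes other than `ker a`. -/
def Other (M : Subgroup (GL (Fin 3) F)) (x a : Fin 3 → F) : Prop := ∃ d, Indep a d ∧ Flag M x d

/-- The scalars `s` with `x ↦ x + s (a · x) v` in `M`. -/
noncomputable def scal (M : Subgroup (GL (Fin 3) F)) (v a : Fin 3 → F) (h : a ⬝ᵥ v = 0) : AddSubgroup F where
  carrier := {s | tv (s • v) a ∈ M}
  zero_mem' := by simp [tv_zero_left]
  add_mem' {s t} hs ht := by
    show tv ((s + t) • v) a ∈ M
    rw [add_smul]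
    exact tv_mem_add_left (by simp [dotProduct_smul, h]) (by simp [dotProduct_smul, h]) hs ht
  neg_mem' {s} hs := by
    show tv ((-s) • v) a ∈ M
    rw [neg_smul, ← tv_inv]
    exact M.inv_mem hs

theorem mem_scal {h : a ⬝ᵥ v = 0} {s : F} : s ∈ scal M v a h ↔ tv (s • v) a ∈ M := Iff.rfl

theorem Flag.scal_ne_bot (h : Flag M v a) : ∃ s ∈ scal M v a h.dot, s ≠ 0 := by
  obtain ⟨h0, hv, ha, s, hs, hm⟩ := h
  exact ⟨s, hm, hs⟩

theorem Flag.of_mem {h : a ⬝ᵥ v = 0} {s : F} (hv : v ≠ 0) (ha : a ≠ 0) (hs : s ≠ 0)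
    (hm : s ∈ scal M v a h) : Flag M v a :=
  ⟨h, hv, ha, s, hs, hm⟩

/-- The scalar rule: a centre `x` on `ker a` and a second axis `d` at the centre `y` on `ker a`. -/
theorem scal_rule {x y : Fin 3 → F} (hx : a ⬝ᵥ x = 0) (hy : a ⬝ᵥ y = 0) (hd : d ⬝ᵥ y = 0)
    (hm : tv x a ∈ M) {t : F} (ht : t ∈ scal M y d hd) : t * (d ⬝ᵥ x) ∈ scal M y a hy := by
  have := tv_rule_axis (v := x) (a := a) (w := t • y) (b := d) hx (by simp [dotProduct_smul, hd])
    (by simp [dotProduct_smul, hy]) hm ht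
  rwa [tv_smul_right, smul_smul, mul_comm] at this

/-- The multipliers of an additive group. -/
def multipliers (K : AddSubgroup F) : Subring F where
  carrier := {e | ∀ k ∈ K, e * k ∈ K}
  one_mem' k hk := by rwa [one_mul]
  mul_mem' {e e'} he he' k hk := by rw [mul_assoc]; exact he _ (he' k hk)
  zero_mem' k _ := by rw [zero_mul]; exact K.zero_mem
  add_mem' {e e'} he he' k hk := by rw [add_mul]; exact K.add_mem (he k hk) (he' k hk)
  neg_mem' {e} he k hk := by rw [neg_mul]; exact K.neg_mem (he k hk)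

/-- The multipliers of an additive group of a finite field form a field. -/
def multField [Finite F] (K : AddSubgroup F) : Subfield F :=
  { multipliers K with
    inv_mem' := fun e he k hk => by
      rcases eq_or_ne e 0 with rfl | h0
      · simp
      have hsur : Function.Surjective fun k : K => (⟨e * k.1, he _ k.2⟩ : K) :=
        Finite.surjective_of_injective fun x y hxy =>
          Subtype.ext (mul_left_cancel₀ h0 (congrArg Subtype.val hxy))
      obtain ⟨⟨k', hk'⟩, hkk⟩ := hsur ⟨k, hk⟩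
      have hek : e * k' = k := congrArg Subtype.val hkk
      rw [← hek, inv_mul_cancel_left₀ h0]
      exact hk' }

theorem mem_multField [Finite F] {K : AddSubgroup F} {e : F} :
    e ∈ multField K ↔ ∀ k ∈ K, e * k ∈ K := Iff.rfl

theorem card_multField_le [Finite F] {K : AddSubgroup F} {k : F} (hk : k ∈ K) (hk0 : k ≠ 0) :
    Nat.card (multField K) ≤ Nat.card K :=
  Nat.card_le_card_of_injective (fun e : multField K => (⟨e.1 * k, e.2 k hk⟩ : K))
    fun x y h => Subtype.ext (mul_right_cancel₀ hk0 (congrArg Subtype.val h))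

/-- The size of a proper subfield. -/
theorem sq_card_subfield_le [Finite F] {E : Subfield F} (hE : E ≠ ⊤) :
    Nat.card E ^ 2 ≤ Nat.card F := by
  classical
  letI := Fintype.ofFinite F
  have h := Module.natCard_eq_pow_finrank (K := E) (V := F)
  rw [h]
  refine Nat.pow_le_pow_right Nat.card_pos ?_
  by_contra hlt
  have hpos : 0 < Module.finrank E F := Module.finrank_pos
  have h1 : Module.finrank E F = 1 := by omega
  rw [h1, pow_one] at h
  apply hE
  rw [eq_top_iff]
  intro x _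
  have hb : Function.Bijective ((↑) : E → F) :=
    (Nat.bijective_iff_injective_and_card _).2 ⟨Subtype.val_injective, h.symm⟩
  obtain ⟨y, rfl⟩ := hb.surjective x
  exact y.2

/-- **The slope lemma.** Two centres `v`, `w` on an axis `ker a`, each with a second axis. Either the
root group of `(v, a)` is in `M`, or after scaling `w` the slopes of centres with a second axis lie in
a proper subfield whose order bounds the transvections of `(v, a)` from below. -/
theorem slopes [Finite F] (hi : Indep v w) (hva : Flag M v a) (hwa : Flag M w a)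
    (hv : Other M v a) (hw : Other M w a) :
    RootIn M v a ∨ ∃ (E : Subfield F) (l : F), E ≠ ⊤ ∧ l ≠ 0 ∧
      Nat.card E ≤ Nat.card (scal M v a hva.dot) ∧
      ∀ t : F, Other M (v + t • w) a → l * t ∈ E := by
  classical
  obtain ⟨b, hab, hb⟩ := hv
  obtain ⟨c, hac, hc⟩ := hw
  have hbw : b ⬝ᵥ w ≠ 0 := fun e => by
    obtain ⟨s, hs⟩ := exists_smul_of_dot hab hva.centre_ne hva.dot hb.dot hwa.dot e
    exact one_ne_zero (neg_eq_zero.1 (hi s (-1) (by rw [hs]; simp)).2)
  have hcv : c ⬝ᵥ v ≠ 0 := fun e => by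
    obtain ⟨s, hs⟩ := exists_smul_of_dot hac hwa.centre_ne hwa.dot hc.dot hva.dot e
    exact one_ne_zero (neg_eq_zero.1 (hi (-1) s (by rw [hs]; simp)).1)
  set K₁ := scal M v a hva.dot
  set K₂ := scal M w a hwa.dot
  obtain ⟨β, hβ, hβ0⟩ := hb.scal_ne_bot
  obtain ⟨γ, hγ, hγ0⟩ := hc.scal_ne_bot
  set β' := β * (b ⬝ᵥ w) with hβ'
  set γ' := γ * (c ⬝ᵥ v) with hγ'
  have hax : ∀ s₁ s₂ : F, a ⬝ᵥ (s₁ • v + s₂ • w) = 0 := fun s₁ s₂ => by
    simp [dotProduct_add, dotProduct_smul, hva.dot, hwa.dot]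
  -- the two maps
  have key : ∀ s₁ s₂ : F, tv (s₁ • v + s₂ • w) a ∈ M → s₂ * β' ∈ K₁ ∧ s₁ * γ' ∈ K₂ := by
    intro s₁ s₂ h
    constructor
    · have := scal_rule (hax s₁ s₂) hva.dot hb.dot h hβ
      rw [dotProduct_add, dotProduct_smul, dotProduct_smul, hb.dot, smul_zero, zero_add,
        smul_eq_mul] at this
      rw [hβ']; convert this using 1; ring
    · have := scal_rule (hax s₁ s₂) hwa.dot hc.dot h hγ
      rw [dotProduct_add, dotProduct_smul, dotProduct_smul, hc.dot, smul_zero, add_zero,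
        smul_eq_mul] at this
      rw [hγ']; convert this using 1; ring
  have h12 : ∀ k ∈ K₁, k * γ' ∈ K₂ := fun k hk => (key k 0 (by simpa using mem_scal.1 hk)).2
  have h21 : ∀ k ∈ K₂, k * β' ∈ K₁ := fun k hk => (key 0 k (by simpa using mem_scal.1 hk)).1
  have hγ'0 : γ' ≠ 0 := mul_ne_zero hγ0 hcv
  have hβ'0 : β' ≠ 0 := mul_ne_zero hβ0 hbw
  -- both maps are bijective
  have hle1 : Nat.card K₁ ≤ Nat.card K₂ :=
    Nat.card_le_card_of_injective (fun k : K₁ => (⟨k.1 * γ', h12 _ k.2⟩ : K₂))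
      fun x y h => Subtype.ext (mul_right_cancel₀ hγ'0 (congrArg Subtype.val h))
  have hinj2 : Function.Injective fun k : K₂ => (⟨k.1 * β', h21 _ k.2⟩ : K₁) :=
    fun x y h => Subtype.ext (mul_right_cancel₀ hβ'0 (congrArg Subtype.val h))
  have hle2 : Nat.card K₂ ≤ Nat.card K₁ := Nat.card_le_card_of_injective _ hinj2
  have hsur2 := ((Nat.bijective_iff_injective_and_card _).2 ⟨hinj2, le_antisymm hle2 hle1⟩).surjective
  have hinj1 : Function.Injective fun k : K₁ => (⟨k.1 * γ', h12 _ k.2⟩ : K₂) :=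
    fun x y h => Subtype.ext (mul_right_cancel₀ hγ'0 (congrArg Subtype.val h))
  have hsur1 := ((Nat.bijective_iff_injective_and_card _).2 ⟨hinj1, le_antisymm hle1 hle2⟩).surjective
  -- the transvections with this axis
  have split : ∀ s₁ s₂ : F, tv (s₁ • v + s₂ • w) a ∈ M → s₁ ∈ K₁ ∧ s₂ ∈ K₂ := by
    intro s₁ s₂ h
    constructor
    · obtain ⟨k, hk⟩ := hsur1 ⟨s₁ * γ', (key s₁ s₂ h).2⟩
      rw [← mul_right_cancel₀ hγ'0 (congrArg Subtype.val hk)]
      exact k.2
    · obtain ⟨k, hk⟩ := hsur2 ⟨s₂ * β', (key s₁ s₂ h).1⟩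
      rw [← mul_right_cancel₀ hβ'0 (congrArg Subtype.val hk)]
      exact k.2
  obtain ⟨k₀, hk₀, hk₀0⟩ := hva.scal_ne_bot
  by_cases htop : multField K₁ = ⊤
  · refine Or.inl ⟨hva.dot, fun s => ?_⟩
    have : s / k₀ ∈ multField K₁ := by rw [htop]; exact Subfield.mem_top _
    have := this k₀ hk₀
    rwa [div_mul_cancel₀ _ hk₀0] at this
  refine Or.inr ⟨multField K₁, β', htop, hβ'0, card_multField_le hk₀ hk₀0, fun t ht => ?_⟩
  obtain ⟨d, had, hd⟩ := ht
  rcases eq_or_ne t 0 with rfl | ht0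
  · rw [mul_zero]; exact Subfield.zero_mem _
  set T := v + t • w
  have hdv : d ⬝ᵥ v ≠ 0 := fun e => by
    have : d ⬝ᵥ w = 0 := by
      have h := hd.dot
      rw [dotProduct_add, dotProduct_smul, e, zero_add, smul_eq_mul] at h
      exact (mul_eq_zero.1 h).resolve_left ht0
    obtain ⟨s, hs⟩ := exists_smul_of_dot had hva.centre_ne hva.dot e hwa.dot this
    exact one_ne_zero (neg_eq_zero.1 (hi s (-1) (by rw [hs]; simp)).2)
  have hdw : t * (d ⬝ᵥ w) = -(d ⬝ᵥ v) := by
    have h := hd.dot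
    rw [dotProduct_add, dotProduct_smul, smul_eq_mul] at h
    linear_combination h
  obtain ⟨u, hu, hu0⟩ := hd.scal_ne_bot
  have haT : a ⬝ᵥ T = 0 := by simp [T, dotProduct_add, dotProduct_smul, hva.dot, hwa.dot]
  have hT : ∀ x : Fin 3 → F, a ⬝ᵥ x = 0 → tv x a ∈ M →
      u * (d ⬝ᵥ x) ∈ K₁ ∧ u * (d ⬝ᵥ x) * t ∈ K₂ := by
    intro x hx hm
    have h := mem_scal.1 (scal_rule hx haT hd.dot hm hu)
    rw [smul_add, smul_smul] at h
    exact split _ _ h
  set κ := u * (d ⬝ᵥ v) with hκ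
  have hκK : ∀ k ∈ K₁, κ * k ∈ K₁ ∧ κ * k * t ∈ K₂ := by
    intro k hk
    have := hT (k • v) (by simp [dotProduct_smul, hva.dot]) hk
    rwa [dotProduct_smul, smul_eq_mul, show u * (k * (d ⬝ᵥ v)) = κ * k by rw [hκ]; ring] at this
  have e1 : κ ∈ multField K₁ := fun k hk => (hκK k hk).1
  have e2 : κ * (β' * t) ∈ multField K₁ := fun k hk => by
    have := h21 _ (hκK k hk).2
    convert this using 1; ring
  have hκ0 : κ ≠ 0 := mul_ne_zero hu0 hdv
  have := Subfield.mul_mem _ (Subfield.inv_mem _ e1) e2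
  rwa [inv_mul_cancel_left₀ hκ0] at this

/-- Few centres with a second axis on one axis. -/
theorem few_centres [Finite F] {E : Subfield F} {l : F} (hl : l ≠ 0) (S : Set F)
    (h : ∀ t ∈ S, l * t ∈ E) : S.ncard ≤ Nat.card E := by
  rw [← Nat.card_coe_set_eq]
  exact Nat.card_le_card_of_injective (fun t : S => (⟨l * t.1, h _ t.2⟩ : E))
    fun x y e => Subtype.ext (mul_left_cancel₀ hl (congrArg Subtype.val e))

/-! ### Duality -/

/-- `g ↦ (g⁻¹)ᵀ`. -/
noncomputable def dualEquiv : GL (Fin 3) F ≃* GL (Fin 3) F where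
  toFun g := ⟨((g⁻¹ : GL (Fin 3) F) : Matrix (Fin 3) (Fin 3) F)ᵀ, (g : Matrix (Fin 3) (Fin 3) F)ᵀ,
    by rw [← transpose_mul, Units.mul_inv, transpose_one],
    by rw [← transpose_mul, Units.inv_mul, transpose_one]⟩
  invFun g := ⟨((g⁻¹ : GL (Fin 3) F) : Matrix (Fin 3) (Fin 3) F)ᵀ, (g : Matrix (Fin 3) (Fin 3) F)ᵀ,
    by rw [← transpose_mul, Units.mul_inv, transpose_one],
    by rw [← transpose_mul, Units.inv_mul, transpose_one]⟩
  left_inv g := by apply Units.ext; simp
  right_inv g := by apply Units.ext; simp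
  map_mul' g h := by apply Units.ext; simp [transpose_mul]

theorem dualEquiv_coe (g : GL (Fin 3) F) :
    (dualEquiv g : Matrix (Fin 3) (Fin 3) F) = ((g⁻¹ : GL (Fin 3) F) : Matrix (Fin 3) (Fin 3) F)ᵀ :=
  rfl

theorem dualEquiv_tv (h : a ⬝ᵥ v = 0) : dualEquiv (tv v a) = tv (-a) v := by
  apply Units.ext
  rw [dualEquiv_coe, tv_inv, tv_coe (by simpa using h), tv_coe (by rw [dotProduct_comm, neg_dotProduct, h, neg_zero]),
    transpose_add, transpose_one, transpose_vecMulVec, vecMulVec_neg, neg_vecMulVec]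

/-- The dual group. -/
noncomputable def dual (M : Subgroup (GL (Fin 3) F)) : Subgroup (GL (Fin 3) F) :=
  M.map dualEquiv.toMonoidHom

theorem Flag.toDual (h : Flag M v a) : Flag (dual M) a v := by
  obtain ⟨h0, hv, ha, s, hs, hm⟩ := h
  refine ⟨by rw [dotProduct_comm, h0], ha, hv, -s, neg_ne_zero.2 hs, ?_⟩
  refine ⟨_, hm, ?_⟩
  rw [MulEquiv.coe_toMonoidHom, dualEquiv_tv (by simp [dotProduct_smul, h0]), tv_smul_right]
  simp

theorem dual_dual : dual (dual M) = M := by
  ext g
  simp only [dual, Subgroup.mem_map, MulEquiv.coe_toMonoidHom]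
  constructor
  · rintro ⟨_, ⟨x, hx, rfl⟩, rfl⟩
    convert hx
    exact dualEquiv.left_inv x
  · exact fun hg => ⟨_, ⟨g, hg, rfl⟩, dualEquiv.left_inv g⟩

theorem flag_dual_iff : Flag (dual M) a v ↔ Flag M v a :=
  ⟨fun h => dual_dual (M := M) ▸ h.toDual, Flag.toDual⟩

theorem rootIn_of_dual (h : RootIn (dual M) a v) : RootIn M v a := by
  refine ⟨by rw [dotProduct_comm]; exact h.1, fun s => ?_⟩
  obtain ⟨g, hg, he⟩ := h.2 (-s)
  rw [MulEquiv.coe_toMonoidHom] at he
  have h0 : a ⬝ᵥ (s • v) = 0 := by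
    rw [dotProduct_smul, dotProduct_comm, h.1, smul_zero]
  have : g = tv (s • v) a := dualEquiv.injective (by
    rw [he, dualEquiv_tv h0, tv_smul_right]; simp)
  exact this ▸ hg

end CfsgLib.SLThree
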